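import Groth.Agent.H9Popescu.EtaleApproximation
import Groth.Agent.H9Hens.GRingLocal
import Groth.Agent.H19Grp.EndoFlat
import Groth.Agent.S0600
import Groth.Agent.H02CA.GeomRegular

/-!
# Approximation of maps to completed local rings by etale neighbourhoods: commutative algebra
-/

set_option autoImplicit false
set_option linter.style.haveILetI false

universe u

open IsLocalRing TensorProduct

namespace Groth.Agent.H8Props.Approx

variable {O : Type u} [CommRing O] [IsLocalRing O] [IsNoetherianRing O]

theorem maximalIdeal_completion :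
    maximalIdeal (AdicCompletion (maximalIdeal O) O) =
      (maximalIdeal O).map (algebraMap O (AdicCompletion (maximalIdeal O) O)) :=
  AdicCompletion.maximalIdeal_eq_map_of_fg (IsNoetherian.noetherian _)

theorem evalₐ_eq_zero_iff (j : ℕ) (c : AdicCompletion (maximalIdeal O) O) :
    AdicCompletion.evalₐ (maximalIdeal O) j c = 0 ↔ c ∈ maximalIdeal (AdicCompletion (maximalIdeal O) O) ^ j := by
  rw [maximalIdeal_completion]
  exact H05EGA4.AdicLim.ker_evalₐ (IsNoetherian.noetherian _) j c

theorem evalₐ_eq_mk_iff (j : ℕ) (c : AdicCompletion (maximalIdeal O) O) (a : O) :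
    AdicCompletion.evalₐ (maximalIdeal O) j c = Ideal.Quotient.mk _ a ↔
      c - algebraMap O (AdicCompletion (maximalIdeal O) O) a ∈
        maximalIdeal (AdicCompletion (maximalIdeal O) O) ^ j := by
  rw [← evalₐ_eq_zero_iff, map_sub, H05EGA4.AdicLim.evalₐ_algebraMap, sub_eq_zero]

theorem exists_evalₐ_eq (j : ℕ) (c : AdicCompletion (maximalIdeal O) O) :
    ∃ a : O, c - algebraMap O (AdicCompletion (maximalIdeal O) O) a ∈
      maximalIdeal (AdicCompletion (maximalIdeal O) O) ^ j := by
  obtain ⟨a, ha⟩ := Ideal.Quotient.mk_surjective (AdicCompletion.evalₐ (maximalIdeal O) j c)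
  exact ⟨a, (evalₐ_eq_mk_iff j c a).1 ha.symm⟩

/-- The truncations of a completion. -/
theorem nonempty_quotient_completion_equiv (j : ℕ) :
    Nonempty ((AdicCompletion (maximalIdeal O) O ⧸ maximalIdeal (AdicCompletion (maximalIdeal O) O) ^ j) ≃+*
      (O ⧸ maximalIdeal O ^ j)) := by
  let f : AdicCompletion (maximalIdeal O) O →+* O ⧸ maximalIdeal O ^ j :=
    (AdicCompletion.evalₐ (maximalIdeal O) j).toRingHom
  have hf : Function.Surjective f := fun q => by
    obtain ⟨a, rfl⟩ := Ideal.Quotient.mk_surjective q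
    exact ⟨algebraMap O _ a, H05EGA4.AdicLim.evalₐ_algebraMap j a⟩
  have hk : RingHom.ker f = maximalIdeal (AdicCompletion (maximalIdeal O) O) ^ j :=
    Ideal.ext fun c => evalₐ_eq_zero_iff j c
  exact ⟨(Ideal.quotEquivOfEq hk.symm).trans (RingHom.quotientKerEquivOfSurjective hf)⟩

/-- Local rings with isomorphic completions have isomorphic truncations. -/
theorem nonempty_quotient_equiv {O' : Type u} [CommRing O'] [IsLocalRing O'] [IsNoetherianRing O']
    (φ : AdicCompletion (maximalIdeal O') O' ≃+* AdicCompletion (maximalIdeal O) O) (j : ℕ) :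
    Nonempty ((O' ⧸ maximalIdeal O' ^ j) ≃+* (O ⧸ maximalIdeal O ^ j)) := by
  obtain ⟨a⟩ := nonempty_quotient_completion_equiv (O := O') j
  obtain ⟨b⟩ := nonempty_quotient_completion_equiv (O := O) j
  have h : maximalIdeal (AdicCompletion (maximalIdeal O) O) ^ j =
      (maximalIdeal (AdicCompletion (maximalIdeal O') O') ^ j).map
        (φ : AdicCompletion (maximalIdeal O') O' →+* AdicCompletion (maximalIdeal O) O) := by
    rw [Ideal.map_pow]
    congr 1
    haveI : ((maximalIdeal (AdicCompletion (maximalIdeal O') O')).map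
        (φ : AdicCompletion (maximalIdeal O') O' →+* AdicCompletion (maximalIdeal O) O)).IsMaximal :=
      Ideal.map_isMaximal_of_equiv φ
    exact (IsLocalRing.eq_maximalIdeal this).symm
  exact ⟨a.symm.trans ((Ideal.quotientEquiv _ _ φ h).trans b)⟩

section Local

variable {R S : Type u} [CommRing R] [CommRing S] [IsLocalRing R] [IsLocalRing S]
  [IsNoetherianRing R] [IsNoetherianRing S] [Algebra R S]

/-- A local homomorphism generating the maximal ideal, with trivial residue extension, between rings
with isomorphic truncations is injective on truncations. -/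
theorem comap_pow_le (hm : (maximalIdeal R).map (algebraMap R S) = maximalIdeal S)
    (hres : ∀ s : S, ∃ r : R, s - algebraMap R S r ∈ maximalIdeal S) (j : ℕ)
    (he : Nonempty ((R ⧸ maximalIdeal R ^ j) ≃+* (S ⧸ maximalIdeal S ^ j))) :
    (maximalIdeal S ^ j).comap (algebraMap R S) ≤ maximalIdeal R ^ j := by
  obtain ⟨e⟩ := he
  have hle : maximalIdeal R ^ j ≤ (maximalIdeal S ^ j).comap (algebraMap R S) := by
    rw [← Ideal.map_le_iff_le_comap, Ideal.map_pow, hm]
  let q := Ideal.quotientMap (maximalIdeal S ^ j) (algebraMap R S) hle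
  have hsurj : Function.Surjective q := fun z => by
    obtain ⟨s, rfl⟩ := Ideal.Quotient.mk_surjective z
    obtain ⟨r, hr⟩ := H19Grp.EndoFlat.exists_sub_mem_pow hm hres j s
    exact ⟨Ideal.Quotient.mk _ r, Ideal.quotientMap_mk.trans (Ideal.Quotient.eq.2 hr).symm⟩
  have hinj := H19Grp.EndoFlat.injective_of_surjective_endo ((e.symm : _ →+* _).comp q)
    (e.symm.surjective.comp hsurj)
  intro r hr
  refine Ideal.Quotient.eq_zero_iff_mem.1 (hinj ?_)
  show e.symm (q (Ideal.Quotient.mk _ r)) = e.symm (q 0)
  rw [Ideal.quotientMap_mk, (Ideal.Quotient.eq_zero_iff_mem (I := maximalIdeal S ^ j)).2 hr, map_zero q]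

/-- A local homomorphism generating the maximal ideal, with trivial residue extension, between rings
with isomorphic truncations is flat. -/
theorem flat_of_truncation_equiv (hm : (maximalIdeal R).map (algebraMap R S) = maximalIdeal S)
    (hres : ∀ s : S, ∃ r : R, s - algebraMap R S r ∈ maximalIdeal S)
    (he : ∀ j, Nonempty ((R ⧸ maximalIdeal R ^ j) ≃+* (S ⧸ maximalIdeal S ^ j))) : Module.Flat R S := by
  haveI : IsLocalHom (algebraMap R S) :=
    ((IsLocalRing.local_hom_TFAE (algebraMap R S)).out 2 0).1 hm.le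
  refine H7Flat.flat_of_injective (S := S) ?_
  rw [injective_iff_map_eq_zero]
  intro x hx
  let L : S ⊗[R] maximalIdeal R →ₗ[S] S :=
    (TensorProduct.AlgebraTensorModule.rid R S S).toLinearMap ∘ₗ
      TensorProduct.AlgebraTensorModule.lTensor S S (maximalIdeal R).subtype
  have hL : ∀ (s : S) (a : maximalIdeal R), L (s ⊗ₜ a) = algebraMap R S a * s := fun s a => by
    simp [L, Algebra.smul_def]
  have hLx : L x = 0 := by
    show TensorProduct.AlgebraTensorModule.rid R S S ((maximalIdeal R).subtype.lTensor S x) = 0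
    rw [hx, map_zero]
  suffices x ∈ ⨅ M : ℕ, maximalIdeal S ^ M • (⊤ : Submodule S (S ⊗[R] maximalIdeal R)) by
    rwa [Ideal.iInf_pow_smul_eq_bot_of_isLocalRing _ (Ideal.IsPrime.ne_top inferInstance),
      Submodule.mem_bot] at this
  rw [Submodule.mem_iInf]
  intro M
  obtain ⟨a, ha⟩ : ∃ a : maximalIdeal R, x - (1 : S) ⊗ₜ[R] a ∈
      maximalIdeal S ^ (M + 1) • (⊤ : Submodule S (S ⊗[R] maximalIdeal R)) := by
    clear hx hLx
    induction x using TensorProduct.induction_on with
    | zero => exact ⟨0, by simp⟩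
    | tmul s b =>
      obtain ⟨r, hr⟩ := H19Grp.EndoFlat.exists_sub_mem_pow hm hres (M + 1) s
      refine ⟨r • b, ?_⟩
      have : s ⊗ₜ[R] b - (1 : S) ⊗ₜ[R] (r • b) = (s - algebraMap R S r) • ((1 : S) ⊗ₜ[R] b) := by
        rw [TensorProduct.tmul_smul, TensorProduct.smul_tmul', TensorProduct.smul_tmul',
          smul_eq_mul, mul_one, TensorProduct.sub_tmul, Algebra.smul_def, mul_one]
      rw [this]
      exact Submodule.smul_mem_smul hr Submodule.mem_top
    | add x y hx hy =>
      obtain ⟨a, ha⟩ := hx
      obtain ⟨b, hb⟩ := hy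
      exact ⟨a + b, by rw [TensorProduct.tmul_add]; convert add_mem ha hb using 1; abel⟩
  have hLmem : ∀ z ∈ maximalIdeal S ^ (M + 1) • (⊤ : Submodule S (S ⊗[R] maximalIdeal R)),
      L z ∈ maximalIdeal S ^ (M + 1) := fun z hz => by
    refine Submodule.smul_induction_on hz (fun r hr t _ => ?_) fun z w hz hw => ?_
    · rw [map_smul]; exact Ideal.mul_mem_right _ _ hr
    · rw [map_add]; exact add_mem hz hw
  have hamem : (a : R) ∈ maximalIdeal R ^ (M + 1) := by
    refine comap_pow_le hm hres (M + 1) (he _) ?_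
    have := hLmem _ ha
    rw [map_sub, hLx, hL, mul_one, zero_sub, neg_mem_iff] at this
    exact this
  have hone : ∀ c : R, c ∈ maximalIdeal R ^ M * maximalIdeal R → ∃ hc : c ∈ maximalIdeal R,
      (1 : S) ⊗ₜ[R] (⟨c, hc⟩ : maximalIdeal R) ∈
        maximalIdeal S ^ M • (⊤ : Submodule S (S ⊗[R] maximalIdeal R)) := by
    intro c hc
    refine Submodule.mul_induction_on hc (fun p hp q hq => ?_) fun u v hu hv => ?_
    · refine ⟨Ideal.mul_mem_left _ p hq, ?_⟩
      have hb : (⟨p * q, Ideal.mul_mem_left _ p hq⟩ : maximalIdeal R) =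
          p • (⟨q, hq⟩ : maximalIdeal R) := rfl
      rw [hb, TensorProduct.tmul_smul, ← algebraMap_smul S p]
      exact Submodule.smul_mem_smul (by rw [← hm, ← Ideal.map_pow]; exact Ideal.mem_map_of_mem _ hp)
        Submodule.mem_top
    · obtain ⟨hu', hu⟩ := hu
      obtain ⟨hv', hv⟩ := hv
      refine ⟨add_mem hu' hv', ?_⟩
      have hb : (⟨u + v, add_mem hu' hv'⟩ : maximalIdeal R) = ⟨u, hu'⟩ + ⟨v, hv'⟩ := rfl
      rw [hb, TensorProduct.tmul_add]
      exact add_mem hu hv
  obtain ⟨_, ha1⟩ := hone a (by rwa [← pow_succ])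
  have := add_mem (Submodule.smul_mono (Ideal.pow_le_pow_right M.le_succ) le_rfl ha) ha1
  rwa [sub_add_cancel] at this

end Local

/-- Local rings essentially of finite type over local G-rings are G-rings. -/
theorem isGRing_of_essFiniteType {A B : Type u} [CommRing A] [IsLocalRing A] [CommRing B] [IsLocalRing B]
    [IsNoetherianRing B] [Algebra A B] [Algebra.EssFiniteType A B] (h : CAlg.IsGRing A) : CAlg.IsGRing B :=
  haveI := h.1
  H9Hens.isGRing_of_grsHom_cpl B
    (H05EGA4.GRSHom.cpl_essFiniteType (H9Hens.grsHom_cpl_of_isGRing A h) B)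

/-- The completion map of a localization of a Noetherian ring at a prime is regular from the ring. -/
theorem isRegularHom_completion {A : Type u} [CommRing A] [IsNoetherianRing A] [Algebra A O]
    (P : Ideal A) [P.IsPrime] [IsLocalization.AtPrime O P] (hG : CAlg.IsGRing O) :
    CAlg.IsRegularHom A (AdicCompletion (maximalIdeal O) O) := by
  let L := AdicCompletion (maximalIdeal O) O
  haveI : IsNoetherianRing L := H05EGA4.isNoetherianRing_adicCompletion O _
  refine H02CA.isRegularHom_comp A O L (H9Popescu.isRegularHom_of_isLocalization O P.primeCompl)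
    (S0600.result O hG _) fun q _ => ?_
  haveI : IsNoetherianRing (L ⊗[A] q.ResidueField) := Algebra.EssFiniteType.isNoetherianRing L _
  exact isNoetherianRing_of_ringEquiv _ (Algebra.TensorProduct.comm A L q.ResidueField).toRingEquiv

/-- Maps of finite type algebras to a completed local ring are approximated by maps to etale algebras. -/
theorem exists_etale_map {R A B : Type u} [CommRing R] [IsNoetherianRing R] [CommRing A] [IsNoetherianRing A]
    [CommRing B] [Algebra R A] [Algebra R B] [Algebra.FiniteType R B] [Algebra A O]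
    (P : Ideal A) [P.IsPrime] [IsLocalization.AtPrime O P] (hG : CAlg.IsGRing O)
    (Φ : B →+* AdicCompletion (maximalIdeal O) O)
    (hΦ : ∀ r : R, Φ (algebraMap R B r) = algebraMap A _ (algebraMap R A r)) (N : ℕ) :
    ∃ (A' : Type u) (_ : CommRing A') (_ : Algebra A A'), Algebra.Etale A A' ∧
      ∃ (ψ : A' →ₐ[A] AdicCompletion (maximalIdeal O) O) (g : B →+* A'),
        (∀ r : R, g (algebraMap R B r) = algebraMap A A' (algebraMap R A r)) ∧
        ∀ b : B, Φ b - ψ (g b) ∈ maximalIdeal (AdicCompletion (maximalIdeal O) O) ^ (N + 1) := by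
  let L := AdicCompletion (maximalIdeal O) O
  letI : Algebra R L := ((algebraMap A L).comp (algebraMap R A)).toAlgebra
  haveI : IsScalarTower R A L := IsScalarTower.of_algebraMap_eq fun _ => rfl
  let Φ' : B →ₐ[R] L := { Φ with commutes' := hΦ }
  haveI : Algebra.FinitePresentation R B := Algebra.FinitePresentation.of_finiteType.1 inferInstance
  obtain ⟨n, π, hπ, hfg⟩ := Algebra.FinitePresentation.out (R := R) (A := B)
  obtain ⟨m, F, hF⟩ := Submodule.fg_iff_exists_fin_generating_family.1 hfg
  haveI : IsNoetherianRing L := H05EGA4.isNoetherianRing_adicCompletion O _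
  haveI := H9Popescu.henselianRing_completion_pow O N
  let a : Fin n → L := fun i => Φ' (π (MvPolynomial.X i))
  have hπa : Φ'.comp π = MvPolynomial.aeval a := MvPolynomial.algHom_ext fun i => by simp [a]
  have hFker : ∀ j, π (F j) = 0 := fun j => by
    have : F j ∈ RingHom.ker π.toRingHom := hF.le (Submodule.subset_span ⟨j, rfl⟩)
    exact this
  have hfrac : ∀ x : L, ∃ r s : A, s ∉ P ∧ algebraMap A L s * x - algebraMap A L r ∈
      (maximalIdeal O).map (algebraMap O L) ^ (N + 1) := fun x => by
    obtain ⟨b, hb⟩ := H9Popescu.exists_sub_mem_completion_pow O (maximalIdeal O) (IsNoetherian.noetherian _) (N + 1) x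
    obtain ⟨r, ⟨s, hs⟩, rfl⟩ := IsLocalization.exists_mk'_eq P.primeCompl b
    refine ⟨r, s, hs, ?_⟩
    rw [IsScalarTower.algebraMap_apply A O L r, IsScalarTower.algebraMap_apply A O L s,
      ← IsLocalization.mk'_spec' O r ⟨s, hs⟩, map_mul, ← mul_sub]
    exact Ideal.mul_mem_left _ _ hb
  obtain ⟨A', _, _, hA', ψ, b, hb, hab⟩ := H9Popescu.exists_etale_approximation
    (isRegularHom_completion (O := O) P hG) ((maximalIdeal O).map (algebraMap O L) ^ (N + 1))
    (fun q => by
      obtain ⟨x, rfl⟩ := Ideal.Quotient.mk_surjective q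
      obtain ⟨r, s, hs, hr⟩ := hfrac x
      refine ⟨r, s, ?_, Ideal.Quotient.eq.mpr hr⟩
      have : IsUnit (algebraMap A L s) := by
        rw [IsScalarTower.algebraMap_apply A O L s]
        exact (IsLocalization.map_units O (⟨s, hs⟩ : P.primeCompl)).map _
      exact this.map (Ideal.Quotient.mk _))
    (fun j => MvPolynomial.map (algebraMap R A) (F j)) a fun j => by
      rw [MvPolynomial.aeval_map_algebraMap, ← hπa]
      show Φ' (π (F j)) = 0
      rw [hFker, map_zero]
  haveI := hA'
  letI : Algebra R A' := ((algebraMap A A').comp (algebraMap R A)).toAlgebra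
  haveI : IsScalarTower R A A' := IsScalarTower.of_algebraMap_eq fun _ => rfl
  have hker : ∀ z ∈ RingHom.ker π.toRingHom, (MvPolynomial.aeval b : MvPolynomial (Fin n) R →ₐ[R] A') z = 0 := by
    intro z hz
    rw [← hF] at hz
    induction hz using Submodule.span_induction with
    | mem z hz =>
      obtain ⟨j, rfl⟩ := hz
      rw [← MvPolynomial.aeval_map_algebraMap A]
      exact hb j
    | zero => rw [map_zero]
    | add z w _ _ h1 h2 => rw [map_add, h1, h2, add_zero]
    | smul c z _ h => rw [smul_eq_mul, map_mul, h, mul_zero]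
  let g : B →ₐ[R] A' := (Ideal.Quotient.liftₐ _ (MvPolynomial.aeval b) hker).comp
    (Ideal.quotientKerAlgEquivOfSurjective hπ).symm.toAlgHom
  have hg : g.comp π = MvPolynomial.aeval b := MvPolynomial.algHom_ext fun i => by
    have : (Ideal.quotientKerAlgEquivOfSurjective hπ).symm (π (MvPolynomial.X i)) =
        Ideal.Quotient.mk _ (MvPolynomial.X i) := (AlgEquiv.symm_apply_eq _).2 rfl
    simp [g, this]
  refine ⟨A', inferInstance, inferInstance, hA', ψ, g.toRingHom, fun r => g.commutes r, fun x => ?_⟩
  rw [maximalIdeal_completion]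
  set J := (maximalIdeal O).map (algebraMap O L) ^ (N + 1)
  obtain ⟨z, rfl⟩ := hπ x
  have key : ((Ideal.Quotient.mkₐ R J).comp Φ').comp π =
      ((Ideal.Quotient.mkₐ R J).comp ((ψ.restrictScalars R).comp g)).comp π :=
    MvPolynomial.algHom_ext fun i => by
      have h1 : g (π (MvPolynomial.X i)) = b i := by
        rw [← AlgHom.comp_apply, hg, MvPolynomial.aeval_X]
      exact (Ideal.Quotient.eq.2 (hab i)).trans (congrArg (fun t => Ideal.Quotient.mk J (ψ t)) h1.symm)
  exact Ideal.Quotient.eq.1 (AlgHom.congr_fun key z)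

end Groth.Agent.H8Props.Approx
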