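import Groth.Agent.H8Props.Approx.Iso

/-!
# Common etale neighbourhoods with a base change to a completion
-/

set_option autoImplicit false
set_option linter.style.haveILetI false

universe u

open CategoryTheory Limits AlgebraicGeometry IsLocalRing

namespace Groth.Agent.H8Props.Approx

variable {X S : Scheme.{u}}

/-- The morphism from the spectrum of the completion of a local ring. -/
noncomputable def fromSpecCompletion (S : Scheme.{u}) (s : S) :
    Spec (CommRingCat.of (AdicCompletion (maximalIdeal ↑(S.presheaf.stalk s)) ↑(S.presheaf.stalk s))) ⟶ S :=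
  Spec.map (CommRingCat.ofHom (algebraMap ↑(S.presheaf.stalk s)
    (AdicCompletion (maximalIdeal ↑(S.presheaf.stalk s)) ↑(S.presheaf.stalk s)))) ≫ S.fromSpecStalk s

/-- The local ring of a base change to the completion at a point over the closed point is generated by
the local ring modulo every power of the maximal ideal. -/
theorem exists_sub_mem_pow_stalk [IsLocallyNoetherian S] (p : X ⟶ S) (x : X)
    (w : ↑(pullback p (fromSpecCompletion S (p x)))) (hw : pullback.fst p (fromSpecCompletion S (p x)) w = x)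
    (j : ℕ) (c : ↑((pullback p (fromSpecCompletion S (p x))).presheaf.stalk w)) :
    ∃ b, c - (stalkTo (pullback.fst p (fromSpecCompletion S (p x))) w hw).hom b ∈
      maximalIdeal ↑((pullback p (fromSpecCompletion S (p x))).presheaf.stalk w) ^ j := by
  rcases Nat.eq_zero_or_pos j with rfl | hj
  · exact ⟨0, by simp⟩
  let Os := S.presheaf.stalk (p x)
  let L := AdicCompletion (maximalIdeal ↑Os) ↑Os
  let P := pullback p (fromSpecCompletion S (p x))
  let Ow := P.presheaf.stalk w
  let J := maximalIdeal ↑Ow ^ j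
  haveI : Nontrivial (↑Ow ⧸ J) := Ideal.Quotient.nontrivial_iff.2 fun h =>
    (IsLocalRing.maximalIdeal.isMaximal ↑Ow).ne_top (top_le_iff.1 (h.symm.le.trans (Ideal.pow_le_self hj.ne')))
  haveI : IsLocalRing (↑Ow ⧸ J) := IsLocalRing.of_surjective' (Ideal.Quotient.mk J) Ideal.Quotient.mk_surjective
  haveI : IsLocalHom (Ideal.Quotient.mk J) := ⟨fun a ha => by
    by_contra hn
    obtain ⟨b, hb⟩ := isUnit_iff_exists_inv.1 ha
    obtain ⟨b, rfl⟩ := Ideal.Quotient.mk_surjective b
    have h1 : a * b - 1 ∈ J := Ideal.Quotient.eq.1 (by rw [map_mul, map_one]; exact hb)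
    have h2 := sub_mem (Ideal.mul_mem_right b (maximalIdeal ↑Ow) hn) (Ideal.pow_le_self hj.ne' h1)
    rw [sub_sub_cancel] at h2
    exact (IsLocalRing.maximalIdeal.isMaximal ↑Ow).ne_top ((Ideal.eq_top_iff_one _).2 h2)⟩
  let π : Ow ⟶ CommRingCat.of (↑Ow ⧸ J) := CommRingCat.ofHom (Ideal.Quotient.mk J)
  let α : X.presheaf.stalk x ⟶ CommRingCat.of (↑Ow ⧸ J) :=
    stalkTo (pullback.fst p (fromSpecCompletion S (p x))) w hw ≫ π
  haveI hα : IsLocalHom α.hom := by
    haveI := isLocalHom_stalkTo (pullback.fst p (fromSpecCompletion S (p x))) w hw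
    exact inferInstanceAs (IsLocalHom (RingHom.comp _ _))
  let Q0 : Subring (↑Ow ⧸ J) := α.hom.range
  haveI : Nontrivial Q0 := inferInstance
  haveI : IsLocalRing Q0 :=
    IsLocalRing.of_surjective' α.hom.rangeRestrict α.hom.rangeRestrict_surjective
  let rr : X.presheaf.stalk x ⟶ CommRingCat.of Q0 := CommRingCat.ofHom α.hom.rangeRestrict
  let incl : CommRingCat.of Q0 ⟶ CommRingCat.of (↑Ow ⧸ J) := CommRingCat.ofHom Q0.subtype
  haveI hrr : IsLocalHom rr.hom := ⟨fun a ha => hα.map_nonunit a (ha.map Q0.subtype)⟩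
  haveI hincl : IsLocalHom incl.hom := ⟨fun q hq => by
    obtain ⟨a, ha⟩ := α.hom.rangeRestrict_surjective q
    subst ha
    exact (hα.map_nonunit a hq).map α.hom.rangeRestrict⟩
  let μ : CommRingCat.of L ⟶ CommRingCat.of (↑Ow ⧸ J) :=
    Spec.preimage (Spec.map π ≫ P.fromSpecStalk w ≫ pullback.snd p (fromSpecCompletion S (p x)))
  have hμ : Spec.map μ = Spec.map π ≫ P.fromSpecStalk w ≫ pullback.snd p (fromSpecCompletion S (p x)) :=
    Spec.map_preimage _
  haveI : IsLocalHom π.hom := ‹IsLocalHom (Ideal.Quotient.mk J)›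
  let can : Os ⟶ CommRingCat.of L := CommRingCat.ofHom (algebraMap ↑Os L)
  have hμcan : can ≫ μ = p.stalkMap x ≫ α := by
    apply Spec.map_injective
    rw [← cancel_mono (S.fromSpecStalk (p x)), Spec.map_comp, Spec.map_comp, Category.assoc, Category.assoc,
      Scheme.SpecMap_stalkMap_fromSpecStalk, hμ, Category.assoc, Category.assoc]
    simp only [α, Spec.map_comp, Category.assoc]
    rw [reassoc_of% (SpecMap_stalkTo (pullback.fst p (fromSpecCompletion S (p x))) w hw)]
    congr 2
    exact pullback.condition.symm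
  -- the image of the completion
  have hμmem : ∀ l, μ.hom l ∈ Q0 := fun l => by
    obtain ⟨r, hr⟩ := exists_evalₐ_eq j l
    have h1 : μ.hom (l - algebraMap ↑Os L r) = 0 := by
      have hle : (maximalIdeal L).map μ.hom ≤ maximalIdeal (↑Ow ⧸ J) := by
        rw [maximalIdeal_completion, Ideal.map_map, Ideal.map_le_iff_le_comap]
        intro a ha
        rw [Ideal.mem_comap]
        show (can ≫ μ).hom a ∈ _
        rw [hμcan]
        exact fun h => ha (IsUnit.of_map (p.stalkMap x).hom a (hα.map_nonunit _ h))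
      have h2 : maximalIdeal (↑Ow ⧸ J) ^ j ≤ ⊥ := by
        rw [← Ideal.map_quotient_self J]
        show _ ≤ Ideal.map (Ideal.Quotient.mk J) (maximalIdeal ↑Ow ^ j)
        rw [Ideal.map_pow]
        refine Ideal.pow_right_mono (fun q hq => ?_) j
        obtain ⟨q, rfl⟩ := Ideal.Quotient.mk_surjective q
        exact Ideal.mem_map_of_mem _ fun h => hq (h.map _)
      exact h2 (Ideal.pow_right_mono hle j (by rw [← Ideal.map_pow]; exact Ideal.mem_map_of_mem _ hr))
    rw [map_sub, sub_eq_zero] at h1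
    rw [h1]
    exact ⟨(p.stalkMap x).hom r, (ConcreteCategory.congr_hom hμcan r).symm⟩
  let μ0 : CommRingCat.of L ⟶ CommRingCat.of Q0 := CommRingCat.ofHom (μ.hom.codRestrict Q0 hμmem)
  have hμ0 : μ0 ≫ incl = μ := rfl
  have hrr' : rr ≫ incl = α := rfl
  let m0 : Spec (CommRingCat.of Q0) ⟶ P := pullback.lift (Spec.map rr ≫ X.fromSpecStalk x) (Spec.map μ0) (by
    have hcomm : can ≫ μ0 = p.stalkMap x ≫ rr := by
      apply CommRingCat.hom_ext
      refine RingHom.ext fun r => Subtype.ext ?_
      exact ConcreteCategory.congr_hom hμcan r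
    rw [Category.assoc, ← Scheme.SpecMap_stalkMap_fromSpecStalk, ← Category.assoc, ← Spec.map_comp, ← hcomm,
      Spec.map_comp, Category.assoc]
    rfl)
  have hm0 : Spec.map incl ≫ m0 = Spec.map π ≫ P.fromSpecStalk w := by
    apply pullback.hom_ext
    · simp only [m0, Category.assoc, pullback.lift_fst]
      rw [← Category.assoc, ← Spec.map_comp, hrr', ← SpecMap_stalkTo _ w hw, ← Category.assoc, ← Spec.map_comp]
    · simp only [m0, Category.assoc, pullback.lift_snd]
      rw [← Spec.map_comp, hμ0, hμ]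
  have hm0w : m0 (closedPoint (CommRingCat.of Q0)) = w := by
    have h := congrArg (fun k : Spec (CommRingCat.of (↑Ow ⧸ J)) ⟶ P =>
      k (closedPoint (CommRingCat.of (↑Ow ⧸ J)))) hm0
    simp only [Scheme.Hom.comp_apply] at h
    rw [closedPoint_SpecMap incl, closedPoint_SpecMap π, Scheme.fromSpecStalk_closedPoint] at h
    exact h
  let c0 : Ow ⟶ CommRingCat.of Q0 :=
    (P.presheaf.stalkCongr (Inseparable.of_eq hm0w)).inv ≫ Scheme.stalkClosedPointTo (R := CommRingCat.of Q0) m0
  have hc0 : c0 ≫ incl = π := by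
    apply Spec.map_injective
    rw [← cancel_mono (P.fromSpecStalk w), ← hm0]
    simp only [c0, Spec.map_comp, Category.assoc]
    congr 1
    conv_rhs => rw [← Scheme.Spec_stalkClosedPointTo_fromSpecStalk (R := CommRingCat.of Q0) m0]
    rw [← SpecMap_stalkCongr_fromSpecStalk hm0w, ← Category.assoc (Spec.map (P.presheaf.stalkCongr _).inv),
      ← Spec.map_comp, Iso.hom_inv_id, Spec.map_id, Category.id_comp]
  obtain ⟨b, hb⟩ := (c0.hom c).2
  refine ⟨b, Ideal.Quotient.eq.1 ?_⟩
  rw [← show (c0.hom c : ↑Ow ⧸ J) = Ideal.Quotient.mk J c from ConcreteCategory.congr_hom hc0 c, ← hb]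
  rfl

theorem stalkTo_fromSpecCompletion {Z : Scheme.{u}} (s : S)
    (r : Z ⟶ Spec (CommRingCat.of (AdicCompletion (maximalIdeal ↑(S.presheaf.stalk s)) ↑(S.presheaf.stalk s))))
    (z : Z) (h : (r ≫ fromSpecCompletion S s) z = s) :
    stalkTo (r ≫ fromSpecCompletion S s) z h =
      CommRingCat.ofHom (algebraMap ↑(S.presheaf.stalk s)
        (AdicCompletion (maximalIdeal ↑(S.presheaf.stalk s)) ↑(S.presheaf.stalk s))) ≫
        (Scheme.ΓSpecIso _).inv ≫ (Spec (CommRingCat.of (AdicCompletion (maximalIdeal ↑(S.presheaf.stalk s))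
          ↑(S.presheaf.stalk s)))).presheaf.germ ⊤ (r z) trivial ≫ r.stalkMap z := by
  apply Spec.map_injective
  rw [← cancel_mono (S.fromSpecStalk s), SpecMap_stalkTo]
  simp only [Spec.map_comp, Category.assoc]
  rw [← Category.assoc (Spec.map ((Spec (CommRingCat.of _)).presheaf.germ ⊤ (r z) trivial)), ← Spec.map_comp,
    ← Spec.fromSpecStalk_eq, ← Category.assoc (Spec.map (r.stalkMap z)),
    Scheme.SpecMap_stalkMap_fromSpecStalk, Category.assoc]
  rfl

/-- A point of a scheme and a point over the closed point of a scheme over the completion with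
isomorphic completions have a common etale neighbourhood over the completion. -/
theorem exists_common_nbhd_completion [IsLocallyNoetherian S] (p : X ⟶ S) [LocallyOfFiniteType p] (x : X)
    {Z : Scheme.{u}} [IsLocallyNoetherian Z]
    (r : Z ⟶ Spec (CommRingCat.of (AdicCompletion (maximalIdeal ↑(S.presheaf.stalk (p x)))
      ↑(S.presheaf.stalk (p x))))) [LocallyOfFiniteType r] (z : Z)
    (hz : r z = closedPoint (AdicCompletion (maximalIdeal ↑(S.presheaf.stalk (p x))) ↑(S.presheaf.stalk (p x))))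
    (hG : CAlg.IsGRing ↑(Z.presheaf.stalk z))
    (φ : AdicCompletion (maximalIdeal ↑(X.presheaf.stalk x)) ↑(X.presheaf.stalk x) ≃+*
      AdicCompletion (maximalIdeal ↑(Z.presheaf.stalk z)) ↑(Z.presheaf.stalk z))
    (hφ : φ.toRingHom.comp ((algebraMap ↑(X.presheaf.stalk x)
        (AdicCompletion (maximalIdeal ↑(X.presheaf.stalk x)) ↑(X.presheaf.stalk x))).comp (p.stalkMap x).hom) =
      ((algebraMap _ (AdicCompletion (maximalIdeal ↑(Z.presheaf.stalk z)) _)).comp (r.stalkMap z).hom).comp
        ((((Spec (CommRingCat.of (AdicCompletion (maximalIdeal ↑(S.presheaf.stalk (p x)))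
            ↑(S.presheaf.stalk (p x))))).presheaf.germ ⊤ (r z) trivial).hom.comp
          ((Scheme.ΓSpecIso (CommRingCat.of (AdicCompletion (maximalIdeal ↑(S.presheaf.stalk (p x)))
            ↑(S.presheaf.stalk (p x))))).inv.hom.comp
            (algebraMap ↑(S.presheaf.stalk (p x))
              (AdicCompletion (maximalIdeal ↑(S.presheaf.stalk (p x))) ↑(S.presheaf.stalk (p x)))))))) :
    ∃ (U : Scheme.{u}) (u : U) (g : U ⟶ pullback p (fromSpecCompletion S (p x))) (h : U ⟶ Z),
      Etale g ∧ Etale h ∧ g ≫ pullback.snd p (fromSpecCompletion S (p x)) = h ≫ r ∧ h u = z ∧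
      (g ≫ pullback.fst p (fromSpecCompletion S (p x))) u = x ∧ Function.Bijective (h.residueFieldMap u) ∧
      Function.Bijective ((g ≫ pullback.fst p (fromSpecCompletion S (p x))).residueFieldMap u) := by
  let Os := S.presheaf.stalk (p x)
  let L := AdicCompletion (maximalIdeal ↑Os) ↑Os
  let gL := fromSpecCompletion S (p x)
  haveI : IsNoetherianRing L := H05EGA4.isNoetherianRing_adicCompletion ↑Os _
  haveI : IsLocallyNoetherian (pullback p gL) := LocallyOfFiniteType.isLocallyNoetherian (pullback.snd p gL)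
  haveI : IsLocallyNoetherian X := LocallyOfFiniteType.isLocallyNoetherian p
  let LX := AdicCompletion (maximalIdeal ↑(X.presheaf.stalk x)) ↑(X.presheaf.stalk x)
  let LZ := AdicCompletion (maximalIdeal ↑(Z.presheaf.stalk z)) ↑(Z.presheaf.stalk z)
  let canX : ↑(X.presheaf.stalk x) →+* LX := algebraMap _ _
  haveI : IsLocalHom (algebraMap ↑Os L) := ((IsLocalRing.local_hom_TFAE (algebraMap ↑Os L)).out 2 0).1
    (maximalIdeal_completion (O := ↑Os)).ge
  have hxz : (r ≫ gL) z = p x := by
    show (r ≫ Spec.map (CommRingCat.ofHom (algebraMap ↑Os L)) ≫ S.fromSpecStalk (p x)) z = p x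
    rw [Scheme.Hom.comp_apply, Scheme.Hom.comp_apply, hz]
    haveI : IsLocalHom (CommRingCat.ofHom (algebraMap ↑Os L)).hom := ‹_›
    rw [closedPoint_SpecMap (CommRingCat.ofHom (algebraMap ↑Os L)), Scheme.fromSpecStalk_closedPoint]
  have hmax : (maximalIdeal LX).map (φ : LX →+* LZ) = maximalIdeal LZ := by
    haveI : ((maximalIdeal LX).map (φ : LX →+* LZ)).IsMaximal := Ideal.map_isMaximal_of_equiv φ
    exact IsLocalRing.eq_maximalIdeal this
  have hpowφ : ∀ (j : ℕ) (b : LX), b ∈ maximalIdeal LX ^ j → φ b ∈ maximalIdeal LZ ^ j := fun j b hb => by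
    rw [← hmax, ← Ideal.map_pow]
    exact Ideal.mem_map_of_mem (φ : LX →+* LZ) hb
  have hφ' : (φ.toRingHom.comp canX).comp
      ((p.stalkMap x).hom.comp (S.presheaf.stalkCongr (Inseparable.of_eq hxz)).hom.hom) =
      (algebraMap ↑(Z.presheaf.stalk z) LZ).comp ((r ≫ gL).stalkMap z).hom := by
    have e1 : (r ≫ gL).stalkMap z =
        (S.presheaf.stalkCongr (Inseparable.of_eq hxz)).hom ≫ stalkTo (r ≫ gL) z hxz := by
      rw [stalkTo, Iso.hom_inv_id_assoc]
    rw [e1, stalkTo_fromSpecCompletion]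
    simp only [RingHom.comp_assoc] at hφ ⊢
    refine RingHom.ext fun a => ?_
    exact RingHom.congr_fun hφ ((S.presheaf.stalkCongr (Inseparable.of_eq hxz)).hom.hom a)
  obtain ⟨U₀, e, u, heu, f, hfu, he, hres, hcomm, ψ, hψloc, hψc, hψb, hψ, hpow⟩ :=
    exists_approx_of_isGRing (r ≫ gL) p z x hxz hG (φ.toRingHom.comp canX) hφ' (fun b hb => by
      rw [← maximalIdeal_completion, ← pow_one (maximalIdeal LZ)]
      refine hpowφ 1 _ ?_
      rw [pow_one, maximalIdeal_completion]
      exact Ideal.mem_map_of_mem _ hb) 2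
  haveI := he
  haveI : IsLocallyNoetherian U₀ := LocallyOfFiniteType.isLocallyNoetherian e
  let g : U₀ ⟶ pullback p gL := pullback.lift f (e ≫ r) (by rw [hcomm, Category.assoc])
  have hg1 : g ≫ pullback.fst p gL = f := pullback.lift_fst _ _ _
  have hg2 : g ≫ pullback.snd p gL = e ≫ r := pullback.lift_snd _ _ _
  haveI : LocallyOfFiniteType (g ≫ pullback.snd p gL) := by rw [hg2]; infer_instance
  haveI : LocallyOfFiniteType g := locallyOfFiniteType_of_comp g (pullback.snd p gL)
  let Ou := U₀.presheaf.stalk u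
  let m := maximalIdeal ↑Ou
  -- every element of the local ring of the neighbourhood comes from `X` modulo the first powers
  have hY : ∀ j ≤ 3, ∀ c : ↑Ou, ∃ b, c - (stalkTo f u hfu).hom b ∈ m ^ j := by
    intro j hj c
    obtain ⟨b, hb⟩ := exists_evalₐ_eq 3 (φ.symm (ψ c))
    refine ⟨b, hψ _ j (Ideal.pow_le_pow_right hj ?_)⟩
    have h1 := hpowφ _ _ hb
    rw [map_sub, RingEquiv.apply_symm_apply] at h1
    have h2 := add_mem h1 (hψb b)
    simp only [RingEquiv.toRingHom_eq_coe, RingHom.comp_apply, RingHom.coe_coe, canX] at h2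
    rwa [sub_add_sub_cancel, ← map_sub] at h2
  have hres' : ∀ c : ↑Ou, ∃ b, c - (stalkTo f u hfu).hom b ∈ m := fun c => by
    simpa [m] using hY 1 (by omega) c
  have hmf : (maximalIdeal ↑(X.presheaf.stalk x)).map (stalkTo f u hfu).hom = m := by
    refine le_antisymm (((IsLocalRing.local_hom_TFAE (stalkTo f u hfu).hom).out 0 2).1 (isLocalHom_stalkTo f u hfu))
      (Submodule.le_of_le_smul_of_le_jacobson_bot (IsNoetherian.noetherian _) (maximalIdeal_le_jacobson _)
        fun c hc => ?_)
    obtain ⟨b, hb⟩ := hY 2 (by omega) c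
    have hbm : b ∈ maximalIdeal ↑(X.presheaf.stalk x) := fun h => by
      have h3 := sub_mem hc (Ideal.pow_le_self two_ne_zero hb)
      rw [sub_sub_cancel] at h3
      exact h3 (h.map (stalkTo f u hfu).hom)
    rw [Submodule.mem_sup]
    exact ⟨_, Ideal.mem_map_of_mem _ hbm, _, by rw [smul_eq_mul, ← pow_two]; exact hb, by ring⟩
  -- the point of the base change
  let w := g u
  have hwx : pullback.fst p gL w = x := by
    rw [← Scheme.Hom.comp_apply, hg1, hfu]
  let a := (stalkTo (pullback.fst p gL) w hwx).hom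
  let β := (g.stalkMap u).hom
  have hab : ∀ b, β (a b) = (stalkTo f u hfu).hom b := by
    have : stalkTo (pullback.fst p gL) w hwx ≫ g.stalkMap u = stalkTo f u hfu := by
      apply Spec.map_injective
      rw [← cancel_mono (X.fromSpecStalk x), Spec.map_comp, Category.assoc, SpecMap_stalkTo, SpecMap_stalkTo,
        ← Category.assoc, Scheme.SpecMap_stalkMap_fromSpecStalk, Category.assoc, hg1]
    exact fun b => ConcreteCategory.congr_hom this b
  have hresg : ∀ c : ↑Ou, ∃ d, c - β d ∈ m := fun c => by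
    obtain ⟨b, hb⟩ := hres' c
    exact ⟨a b, by rwa [hab]⟩
  have hmg : (maximalIdeal ↑((pullback p gL).presheaf.stalk w)).map β = m := by
    refine le_antisymm (((IsLocalRing.local_hom_TFAE β).out 0 2).1 (inferInstance : IsLocalHom (g.stalkMap u).hom)) ?_
    rw [← hmf, ← (RingHom.ext hab : β.comp a = (stalkTo f u hfu).hom), ← Ideal.map_map]
    refine Ideal.map_mono (((IsLocalRing.local_hom_TFAE a).out 0 2).1 ?_)
    exact isLocalHom_stalkTo (pullback.fst p gL) w hwx
  letI : Algebra ↑((pullback p gL).presheaf.stalk w) ↑Ou := β.toAlgebra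
  have hflat : β.Flat := by
    refine flat_of_truncation_equiv hmg hresg fun j => ?_
    letI : Algebra ↑(X.presheaf.stalk x) ↑Ou := (stalkTo f u hfu).hom.toAlgebra
    letI : Algebra ↑(Z.presheaf.stalk z) ↑Ou := (stalkTo e u heu).hom.toAlgebra
    obtain ⟨ae⟩ := nonempty_quotient_equiv φ j
    let qe : (↑(Z.presheaf.stalk z) ⧸ maximalIdeal ↑(Z.presheaf.stalk z) ^ j) →+* (↑Ou ⧸ m ^ j) :=
      Ideal.quotientMap _ (stalkTo e u heu).hom (by
        rw [← Ideal.map_le_iff_le_comap, Ideal.map_pow, map_maximalIdeal_stalkTo e u heu])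
    have hqe : Function.Bijective qe := by
      refine ⟨(injective_iff_map_eq_zero qe).2 fun v hv => ?_, fun v => ?_⟩
      · obtain ⟨c, rfl⟩ := Ideal.Quotient.mk_surjective v
        rw [Ideal.quotientMap_mk, Ideal.Quotient.eq_zero_iff_mem] at hv
        have h1 : ψ ((stalkTo e u heu).hom c) ∈ maximalIdeal LZ ^ j := by
          refine Ideal.pow_right_mono (((IsLocalRing.local_hom_TFAE ψ).out 0 2).1 hψloc) j ?_
          rw [← Ideal.map_pow]
          exact Ideal.mem_map_of_mem ψ hv
        rw [hψc, ← evalₐ_eq_zero_iff, H05EGA4.AdicLim.evalₐ_algebraMap] at h1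
        exact h1
      · obtain ⟨c', rfl⟩ := Ideal.Quotient.mk_surjective v
        obtain ⟨c, hc⟩ := hpow c' j
        exact ⟨Ideal.Quotient.mk _ c, Ideal.quotientMap_mk.trans (Ideal.Quotient.eq.2 hc).symm⟩
    have hinj : (maximalIdeal ↑Ou ^ j).comap (stalkTo f u hfu).hom ≤ maximalIdeal ↑(X.presheaf.stalk x) ^ j :=
      comap_pow_le hmf hres' j ⟨ae.trans (RingEquiv.ofBijective qe hqe)⟩
    have hgen := exists_sub_mem_pow_stalk p x w hwx j
    let qg : (↑((pullback p gL).presheaf.stalk w) ⧸ maximalIdeal ↑((pullback p gL).presheaf.stalk w) ^ j) →+*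
        (↑Ou ⧸ m ^ j) :=
      Ideal.quotientMap _ β (by rw [← Ideal.map_le_iff_le_comap, Ideal.map_pow, hmg])
    have hqg : Function.Bijective qg := by
      refine ⟨(injective_iff_map_eq_zero qg).2 fun v hv => ?_, fun v => ?_⟩
      · obtain ⟨c, rfl⟩ := Ideal.Quotient.mk_surjective v
        rw [Ideal.quotientMap_mk, Ideal.Quotient.eq_zero_iff_mem] at hv
        obtain ⟨b, hb⟩ := hgen c
        have hle : (maximalIdeal ↑((pullback p gL).presheaf.stalk w) ^ j).map β ≤ m ^ j := by
          rw [Ideal.map_pow, hmg]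
        have h1 := sub_mem hv (hle (Ideal.mem_map_of_mem β hb))
        rw [map_sub, sub_sub_cancel, hab] at h1
        have h2 : a b ∈ maximalIdeal ↑((pullback p gL).presheaf.stalk w) ^ j := by
          refine Ideal.pow_right_mono (((IsLocalRing.local_hom_TFAE a).out 0 2).1
            (isLocalHom_stalkTo (pullback.fst p gL) w hwx)) j ?_
          rw [← Ideal.map_pow]
          exact Ideal.mem_map_of_mem a (hinj h1)
        rw [Ideal.Quotient.eq_zero_iff_mem]
        have h3 := add_mem hb h2
        simp only [a, gL, sub_add_cancel] at h3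
        exact h3
      · obtain ⟨c', rfl⟩ := Ideal.Quotient.mk_surjective v
        obtain ⟨b, hb⟩ := H19Grp.EndoFlat.exists_sub_mem_pow (R := ↑((pullback p gL).presheaf.stalk w)) hmg hresg j c'
        exact ⟨Ideal.Quotient.mk _ b, Ideal.quotientMap_mk.trans (Ideal.Quotient.eq.2 hb).symm⟩
    exact ⟨RingEquiv.ofBijective qg hqg⟩
  have hgres : Function.Bijective (g.residueFieldMap u) := residueFieldMap_bijective g u rfl fun c => by
    rw [stalkTo_self]
    exact hresg c
  obtain ⟨W, huW, hW⟩ : ∃ W : U₀.Opens, u ∈ W ∧ Etale (W.ι ≫ g) := by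
    refine (H9Hens.etale_nhd_iff g u).2 ⟨hflat, (H9Hens.stalk_unramified_iff g u).2 ⟨hmg, ?_⟩⟩
    letI := (g.residueFieldMap u).hom.toAlgebra
    let ε : (pullback p gL).residueField (g.base u) ≃ₐ[(pullback p gL).residueField (g.base u)] U₀.residueField u :=
      AlgEquiv.ofBijective (Algebra.ofId _ _) hgres
    exact ⟨Module.Finite.equiv ε.toLinearEquiv, AlgEquiv.Algebra.isSeparable ε⟩
  let w' : W := ⟨u, huW⟩
  have hι : Function.Bijective (W.ι.residueFieldMap w') :=
    ConcreteCategory.bijective_of_isIso (W.ι.residueFieldMap w')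
  refine ⟨W, w', W.ι ≫ g, W.ι ≫ e, hW, inferInstance, by rw [Category.assoc, hg2, Category.assoc],
    heu, ?_, ?_, ?_⟩
  · rw [Category.assoc, hg1]
    exact hfu
  · rw [Scheme.residueFieldMap_comp]
    exact hι.comp hres
  · have : (W.ι ≫ g) ≫ pullback.fst p gL = W.ι ≫ f := by rw [Category.assoc, hg1]
    rw [this, Scheme.residueFieldMap_comp]
    exact hι.comp (residueFieldMap_bijective f u hfu hres')

end Groth.Agent.H8Props.Approx
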