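import Groth.Agent.H8Props.Approx.Descent
import Groth.Agent.H8Props.Approx.Ring

/-!
# Spreading a common etale algebra over a regular algebra to an etale algebra over the ring
-/

set_option autoImplicit false
set_option linter.style.haveILetI false
set_option backward.isDefEq.respectTransparency false

universe u

open TensorProduct IsLocalRing

namespace Groth.Agent.H8Props.Approx

/-- An algebra etale over two algebras extended to a regular local algebra `L` gives such an algebra over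
an etale algebra over the ring, with a point with values in the residue field of `L`. -/
theorem exists_etale_spread {R D0 L A B E κ : Type u} [CommRing R] [IsNoetherianRing R] [CommRing D0]
    [Algebra R D0] [Algebra.FiniteType R D0] [CommRing L] [IsNoetherianRing L] [IsLocalRing L]
    [Algebra R L] [Algebra D0 L] [IsScalarTower R D0 L] (hreg : CAlg.IsRegularHom R L)
    (hk : ∀ q : L ⧸ maximalIdeal L, ∃ r s : R, IsUnit (algebraMap R (L ⧸ maximalIdeal L) s) ∧
      algebraMap R (L ⧸ maximalIdeal L) s * q = algebraMap R (L ⧸ maximalIdeal L) r)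
    [CommRing A] [Algebra D0 A] [Algebra.FiniteType D0 A] [CommRing B] [Algebra D0 B] [Algebra.FiniteType D0 B]
    [CommRing E] [CommRing κ] (eA : L ⊗[D0] A →+* E) (eB : L ⊗[D0] B →+* E) (hA : eA.Etale) (hB : eB.Etale)
    (hcomm : ∀ l : L, eA (l ⊗ₜ 1) = eB (l ⊗ₜ 1)) (χE : E →+* κ) (kbar : L ⧸ maximalIdeal L →+* κ)
    (hkbar : ∀ l, χE (eA (l ⊗ₜ 1)) = kbar (Ideal.Quotient.mk _ l)) :
    ∃ (R' : Type u) (_ : CommRing R') (_ : Algebra R R') (_ : Algebra D0 R') (_ : IsScalarTower R D0 R'),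
      Algebra.Etale R R' ∧ ∃ ψ : R' →ₐ[R] L ⧸ maximalIdeal L,
        (∀ d, ψ (algebraMap D0 R' d) = Ideal.Quotient.mk _ (algebraMap D0 L d)) ∧
        ∃ (W : Type u) (_ : CommRing W) (a : R' ⊗[D0] A →+* W) (b : R' ⊗[D0] B →+* W),
          a.Etale ∧ b.Etale ∧ (∀ r, a (r ⊗ₜ 1) = b (r ⊗ₜ 1)) ∧ ∃ ω : W →+* κ,
            (∀ r, ω (a (r ⊗ₜ 1)) = kbar (ψ r)) ∧ (∀ x, ω (a (1 ⊗ₜ x)) = χE (eA (1 ⊗ₜ x))) ∧
            ∀ y, ω (b (1 ⊗ₜ y)) = χE (eB (1 ⊗ₜ y)) := by
  haveI : IsNoetherianRing D0 := Algebra.FiniteType.isNoetherianRing R D0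
  obtain ⟨D, _, _, hD, π, M, _, _, fA, fB, hfA, hfB, χ, hχD, hχA, hχB⟩ :=
    exists_etale_model eA eB hA hB hcomm
  haveI := hD
  letI : Algebra R D := ((algebraMap D0 D).comp (algebraMap R D0)).toAlgebra
  haveI : IsScalarTower R D0 D := IsScalarTower.of_algebraMap_eq fun _ => rfl
  haveI : Algebra.FiniteType R D := Algebra.FiniteType.trans (R := R) (S := D0) (A := D) inferInstance inferInstance
  obtain ⟨C, _, _, hC, g₁, h, hgh⟩ := H9Popescu.popescu hreg D (Algebra.FinitePresentation.of_finiteType.1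
    inferInstance) (π.restrictScalars R)
  haveI := hC
  obtain ⟨R', _, _, hR', ψ, gC, hψ⟩ :=
    H9Popescu.exists_etale_of_smooth hk ((Ideal.Quotient.mkₐ R (maximalIdeal L)).comp h)
  let f : D →ₐ[R] R' := gC.comp g₁
  have hf : ∀ d, ψ (f d) = Ideal.Quotient.mk _ (π d) := fun d =>
    (AlgHom.congr_fun hψ (g₁ d)).trans (congrArg _ (AlgHom.congr_fun hgh d))
  letI : Algebra D R' := f.toRingHom.toAlgebra
  letI : Algebra D0 R' := (f.toRingHom.comp (algebraMap D0 D)).toAlgebra
  haveI : IsScalarTower D0 D R' := IsScalarTower.of_algebraMap_eq fun _ => rfl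
  haveI : IsScalarTower R D0 R' := IsScalarTower.of_algebraMap_eq fun r => (f.commutes r).symm
  let kψ : R' →+* κ := kbar.comp ψ.toRingHom
  letI : Algebra D κ := ((χ.comp (algebraMap D M)) |> χE.comp).toAlgebra
  let ω₁ : R' →ₐ[D] κ :=
    { kψ with
      commutes' := fun d => by
        show kbar (ψ (f d)) = χE (χ (algebraMap D M d))
        rw [hf, hχD, hkbar] }
  let ω₂ : M →ₐ[D] κ := { χE.comp χ with commutes' := fun _ => rfl }
  let ω : R' ⊗[D] M →ₐ[D] κ := Algebra.TensorProduct.lift ω₁ ω₂ fun _ _ => Commute.all _ _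
  have hω : ∀ r m, ω (r ⊗ₜ m) = kbar (ψ r) * χE (χ m) := fun r m =>
    Algebra.TensorProduct.lift_tmul _ _ _ _ _
  refine ⟨R', inferInstance, inferInstance, inferInstance, inferInstance, hR', ψ,
    fun d => (hf (algebraMap D0 D d)).trans (by rw [π.commutes]), R' ⊗[D] M, inferInstance,
    (bcHom fA R').toRingHom, (bcHom fB R').toRingHom, bcHom_etale fA hfA R', bcHom_etale fB hfB R',
    fun r => ?_, ω.toRingHom, fun r => ?_, fun x => ?_, fun y => ?_⟩
  · show bcHom fA R' (r ⊗ₜ 1) = bcHom fB R' (r ⊗ₜ 1)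
    rw [bcHom_tmul, bcHom_tmul, ← Algebra.TensorProduct.one_def, map_one, ← Algebra.TensorProduct.one_def, map_one]
  · show ω (bcHom fA R' (r ⊗ₜ 1)) = _
    rw [bcHom_tmul, hω, ← Algebra.TensorProduct.one_def, map_one, map_one, map_one, mul_one]
  · show ω (bcHom fA R' (1 ⊗ₜ x)) = _
    rw [bcHom_tmul, hω, map_one, map_one, one_mul, hχA]
  · show ω (bcHom fB R' (1 ⊗ₜ y)) = _
    rw [bcHom_tmul, hω, map_one, map_one, one_mul, hχB]

end Groth.Agent.H8Props.Approx
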