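import Groth.Agent.H22Alg.SpecResidue
import Groth.Agent.H8Props.Approx.EtaleSpread
import Mathlib.AlgebraicGeometry.Morphisms.Etale
import Mathlib.AlgebraicGeometry.Morphisms.FiniteType

/-!
# Affine charts for etale neighbourhoods over a base change
-/

set_option autoImplicit false
set_option linter.style.haveILetI false

universe u

open CategoryTheory Limits AlgebraicGeometry TensorProduct

namespace Groth.Agent.H8Props.Approx

variable {X S : Scheme.{u}}

/-- The affine chart of a base change. -/
theorem exists_chart_pullback {R A L : Type u} [CommRing R] [CommRing A] [CommRing L] [Algebra R A]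
    [Algebra R L] (p : X ⟶ S) (j : Spec (CommRingCat.of R) ⟶ S) [IsOpenImmersion j]
    (i : Spec (CommRingCat.of A) ⟶ X) [IsOpenImmersion i]
    (hi : Spec.map (CommRingCat.ofHom (algebraMap R A)) ≫ j = i ≫ p)
    (gL : Spec (CommRingCat.of L) ⟶ S)
    (hgL : Spec.map (CommRingCat.ofHom (algebraMap R L)) ≫ j = gL) :
    ∃ m : Spec (CommRingCat.of (L ⊗[R] A)) ⟶ pullback p gL, IsOpenImmersion m ∧
      m ≫ pullback.fst p gL = Spec.map (CommRingCat.ofHom
        (Algebra.TensorProduct.includeRight : A →ₐ[R] L ⊗[R] A).toRingHom) ≫ i ∧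
      m ≫ pullback.snd p gL = Spec.map (CommRingCat.ofHom
        (Algebra.TensorProduct.includeLeftRingHom : L →+* L ⊗[R] A)) := by
  let a := Spec.map (CommRingCat.ofHom (algebraMap R A))
  let l := Spec.map (CommRingCat.ofHom (algebraMap R L))
  let mp : pullback a l ⟶ pullback p gL :=
    pullback.map a l p gL i (𝟙 _) j hi (by rw [Category.id_comp]; exact hgL)
  refine ⟨(pullbackSpecIso R L A).inv ≫ (pullbackSymmetry _ _).hom ≫ mp, inferInstance, ?_, ?_⟩
  · simp only [mp, Category.assoc, pullback.lift_fst]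
    rw [pullbackSymmetry_hom_comp_fst_assoc, pullbackSpecIso_inv_snd_assoc]
    rfl
  · simp only [mp, Category.assoc, pullback.lift_snd, Category.comp_id]
    rw [pullbackSymmetry_hom_comp_snd, pullbackSpecIso_inv_fst]

/-- An etale morphism to a base change gives an etale homomorphism from the tensor product. -/
theorem exists_etale_hom {R A L E : Type u} [CommRing R] [CommRing A] [CommRing L] [CommRing E]
    [Algebra R A] [Algebra R L] (p : X ⟶ S) (j : Spec (CommRingCat.of R) ⟶ S) [IsOpenImmersion j]
    (i : Spec (CommRingCat.of A) ⟶ X) [IsOpenImmersion i]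
    (hi : Spec.map (CommRingCat.ofHom (algebraMap R A)) ≫ j = i ≫ p)
    (gL : Spec (CommRingCat.of L) ⟶ S)
    (hgL : Spec.map (CommRingCat.ofHom (algebraMap R L)) ≫ j = gL)
    (k : Spec (CommRingCat.of E) ⟶ pullback p gL) [Etale k] (α : A →+* E) (lam : L →+* E)
    (hk1 : k ≫ pullback.fst p gL = Spec.map (CommRingCat.ofHom α) ≫ i)
    (hk2 : k ≫ pullback.snd p gL = Spec.map (CommRingCat.ofHom lam)) :
    ∃ e : L ⊗[R] A →+* E, e.Etale ∧ (∀ l, e (l ⊗ₜ 1) = lam l) ∧ ∀ a, e (1 ⊗ₜ a) = α a := by
  have hR : α.comp (algebraMap R A) = lam.comp (algebraMap R L) := by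
    suffices h : CommRingCat.ofHom (α.comp (algebraMap R A)) = CommRingCat.ofHom (lam.comp (algebraMap R L)) from
      congrArg CommRingCat.Hom.hom h
    apply Spec.map_injective
    simp only [CommRingCat.ofHom_comp, Spec.map_comp]
    rw [← cancel_mono j, Category.assoc, Category.assoc, hi, hgL, ← Category.assoc, ← hk1, ← hk2,
      Category.assoc, Category.assoc, pullback.condition]
  letI : Algebra R E := (lam.comp (algebraMap R L)).toAlgebra
  let lam' : L →ₐ[R] E := { lam with commutes' := fun _ => rfl }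
  let α' : A →ₐ[R] E := { α with commutes' := fun r => RingHom.congr_fun hR r }
  let e : L ⊗[R] A →ₐ[R] E := Algebra.TensorProduct.lift lam' α' fun _ _ => Commute.all _ _
  have h1 : ∀ l, e (l ⊗ₜ 1) = lam l := fun l => by
    simp [e, lam']
  have h2 : ∀ a, e (1 ⊗ₜ a) = α a := fun a => by
    simp [e, α']
  refine ⟨e.toRingHom, ?_, h1, h2⟩
  obtain ⟨m, hm, hm1, hm2⟩ := exists_chart_pullback p j i hi gL hgL
  haveI := hm
  have hkm : Spec.map (CommRingCat.ofHom e.toRingHom) ≫ m = k := by
    apply pullback.hom_ext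
    · rw [Category.assoc, hm1, hk1, ← Category.assoc, ← Spec.map_comp]
      congr 2
      exact CommRingCat.hom_ext (RingHom.ext h2)
    · rw [Category.assoc, hm2, hk2, ← Spec.map_comp]
      congr 1
      exact CommRingCat.hom_ext (RingHom.ext h1)
  haveI : Etale (Spec.map (CommRingCat.ofHom e.toRingHom) ≫ m) := by rw [hkm]; infer_instance
  haveI : Etale (Spec.map (CommRingCat.ofHom e.toRingHom)) := Etale.of_comp _ m
  exact (HasRingHomProperty.Spec_iff (P := @Etale)).1 ‹_›

/-- Every element of the subfield generated by the image of a ring is a fraction. -/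
theorem exists_div_of_mem_closure {A K : Type u} [CommRing A] [Field K] (f : A →+* K) {c : K}
    (hc : c ∈ Subfield.closure (Set.range f)) : ∃ a b : A, f b ≠ 0 ∧ c * f b = f a := by
  induction hc using Subfield.closure_induction with
  | mem x hx => obtain ⟨a, rfl⟩ := hx; exact ⟨a, 1, by simp, by simp⟩
  | one => exact ⟨1, 1, by simp, by simp⟩
  | add x y _ _ hx hy =>
    obtain ⟨a, b, hb, hx⟩ := hx
    obtain ⟨a', b', hb', hy⟩ := hy
    refine ⟨a * b' + a' * b, b * b', by simp [hb, hb'], ?_⟩
    rw [map_add, map_mul, map_mul, map_mul, ← hx, ← hy]; ring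
  | neg x _ hx =>
    obtain ⟨a, b, hb, hx⟩ := hx
    exact ⟨-a, b, hb, by rw [map_neg, ← hx]; ring⟩
  | inv x _ hx =>
    obtain ⟨a, b, hb, hx⟩ := hx
    by_cases h : x = 0
    · exact ⟨0, 1, by simp, by simp [h]⟩
    · exact ⟨b, a, by rw [← hx]; exact mul_ne_zero h hb, by rw [← hx, inv_mul_cancel_left₀ h]⟩
  | mul x y _ _ hx hy =>
    obtain ⟨a, b, hb, hx⟩ := hx
    obtain ⟨a', b', hb', hy⟩ := hy
    refine ⟨a * a', b * b', by simp [hb, hb'], ?_⟩
    rw [map_mul, map_mul, ← hx, ← hy]; ring

/-- A point with surjective residue field map is generated by the chart. -/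
theorem closure_range_eq_top {U : Scheme.{u}} (F : U ⟶ X) (x : U) {A : Type u} [CommRing A]
    (i : Spec (CommRingCat.of A) ⟶ X) [IsOpenImmersion i]
    (hF : Function.Surjective (F.residueFieldMap x)) (f : A →+* U.residueField x)
    (hf : Spec.map (CommRingCat.ofHom f) ≫ i = U.fromSpecResidueField x ≫ F) :
    Subfield.closure (Set.range f) = ⊤ := by
  obtain ⟨⟨z, τ⟩, hzτ⟩ := (Scheme.SpecToEquivOfField (U.residueField x) (Spec (CommRingCat.of A))).symm.surjective
    (Spec.map (CommRingCat.ofHom f))
  rw [Scheme.SpecToEquivOfField_symm_apply] at hzτ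
  have hτ : ∀ a, τ.hom ((H22Alg.specEv (CommRingCat.of A) z).hom a) = f a := by
    have : H22Alg.specEv (CommRingCat.of A) z ≫ τ = CommRingCat.ofHom f := by
      apply Spec.map_injective
      refine Eq.trans ?_ hzτ
      rw [H22Alg.specEv_eq, Spec.map_comp, Spec.map_comp]
      exact congrArg _ (Scheme.Spec.map_residueFieldIso_inv_eq_fromSpecResidueField _ _)
    exact fun a => ConcreteCategory.congr_hom this a
  have hz : i z = F x := by
    have := congrArg (fun m : Spec (U.residueField x) ⟶ X => m (IsLocalRing.closedPoint _)) hf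
    rw [← hzτ] at this
    simp only [Scheme.Hom.comp_apply] at this
    exact ((congrArg (fun w => i w) (Scheme.fromSpecResidueField_apply z _)).symm.trans this).trans
      (congrArg F (Scheme.fromSpecResidueField_apply x _))
  have hτs : Function.Surjective τ := by
    have : (X.residueFieldCongr hz.symm).hom ≫ i.residueFieldMap z ≫ τ = F.residueFieldMap x := by
      apply Spec.map_injective
      rw [← cancel_mono (X.fromSpecResidueField (F x))]
      simp only [Spec.map_comp, Category.assoc]
      rw [Scheme.residueFieldCongr_fromSpecResidueField, i.SpecMap_residueFieldMap_fromSpecResidueField,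
        F.SpecMap_residueFieldMap_fromSpecResidueField, ← hf, ← hzτ, Category.assoc]
    intro c
    obtain ⟨d, hd⟩ := hF c
    rw [← this] at hd
    exact ⟨_, hd⟩
  refine eq_top_iff.2 fun c _ => ?_
  obtain ⟨d, rfl⟩ := hτs c
  obtain ⟨a, b, hb, hab⟩ := H22Alg.exists_eq_specEv_div (CommRingCat.of A) z d
  have h1 := congrArg τ.hom hab
  rw [map_mul, hτ, hτ] at h1
  have hb' : f b ≠ 0 := by
    rw [← hτ, map_ne_zero_iff _ τ.hom.injective]
    exact fun h => hb ((H22Alg.specEv_eq_zero_iff _ z b).1 h)
  rw [show (τ d : U.residueField x) = f a / f b from (eq_div_iff hb').2 h1]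
  exact div_mem (Subfield.subset_closure ⟨a, rfl⟩) (Subfield.subset_closure ⟨b, rfl⟩)

/-- A chart of a morphism of affine schemes has bijective residue field map at a field valued point
generated by the source. -/
theorem residueFieldMap_bijective_of_chart {A B K : Type u} [CommRing A] [CommRing B] [Field K]
    (φ : A →+* B) (ω : B →+* K) (h : Subfield.closure (Set.range (ω.comp φ)) = ⊤)
    (i : Spec (CommRingCat.of A) ⟶ X) [IsOpenImmersion i] :
    Function.Bijective ((Spec.map (CommRingCat.ofHom φ) ≫ i).residueFieldMap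
      (Spec.map (CommRingCat.ofHom ω) (IsLocalRing.closedPoint K))) := by
  let w : Spec (CommRingCat.of B) := Spec.map (CommRingCat.ofHom ω) (IsLocalRing.closedPoint K)
  have hw : ∀ b : B, b ∈ w.asIdeal ↔ ω b = 0 := fun b => by
    show ω b ∈ IsLocalRing.maximalIdeal K ↔ _
    simp [IsLocalRing.mem_maximalIdeal, mem_nonunits_iff]
  refine ⟨RingHom.injective _, ?_⟩
  rw [Scheme.residueFieldMap_comp]
  refine (H22Alg.surjective_residueFieldMap (CommRingCat.ofHom φ) w fun y => ?_).comp
    (ConcreteCategory.bijective_of_isIso (i.residueFieldMap _)).2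
  obtain ⟨a, b, hb, hab⟩ := exists_div_of_mem_closure (ω.comp φ) (c := ω y) (by rw [h]; trivial)
  refine ⟨b, a, fun hm => hb ((hw _).1 hm), (hw _).2 ?_⟩
  rw [map_sub, map_mul, sub_eq_zero, mul_comm]
  exact hab

end Groth.Agent.H8Props.Approx
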