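import Groth.Agent.H02CA.ColimDescent
import Mathlib.RingTheory.RingHom.Etale
import Mathlib.RingTheory.Smooth.NoetherianDescent

/-!
# A common etale algebra over two algebras descends from a Noetherian algebra to a finitely generated one
-/

set_option autoImplicit false
set_option linter.style.haveILetI false
set_option backward.isDefEq.respectTransparency false

universe u

open TensorProduct

namespace Groth.Agent.H8Props.Approx

theorem etale_iff_square {P Q P' Q' : Type u} [CommRing P] [CommRing Q] [CommRing P'] [CommRing Q']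
    (f : P →+* Q) (f' : P' →+* Q') (e₁ : P ≃+* P') (e₂ : Q ≃+* Q') (h : ∀ x, e₂ (f x) = f' (e₁ x)) :
    f.Etale ↔ f'.Etale := by
  constructor
  · intro hf
    have := RingHom.Etale.respectsIso.1 _ e₂ (RingHom.Etale.respectsIso.2 _ e₁.symm hf)
    convert this using 1
    refine RingHom.ext fun x => ?_
    simpa using (h (e₁.symm x)).symm
  · intro hf
    have := RingHom.Etale.respectsIso.1 _ e₂.symm (RingHom.Etale.respectsIso.2 _ e₁ hf)
    convert this using 1
    refine RingHom.ext fun x => ?_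
    simp [← h x]

theorem etale_tensor_of_algHom {R P P' N : Type u} [CommRing R] [CommRing P] [CommRing P'] [CommRing N]
    [Algebra R P] [Algebra R P'] [Algebra R N] (g : P →ₐ[R] P') (h : Algebra.Etale P (P ⊗[R] N)) :
    Algebra.Etale P' (P' ⊗[R] N) := by
  letI := g.toRingHom.toAlgebra
  haveI : IsScalarTower R P P' := IsScalarTower.of_algebraMap_eq fun x => (g.commutes x).symm
  exact Algebra.Etale.of_equiv (A := P' ⊗[P] (P ⊗[R] N))
    (Algebra.TensorProduct.cancelBaseChange R P P' P' N)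

variable {D0 : Type u} [CommRing D0] {D : Type u} [CommRing D] [Algebra D0 D]
  {A : Type u} [CommRing A] [Algebra D0 A] {M : Type u} [CommRing M] [Algebra D M]

/-- The base change of a homomorphism from an extended algebra. -/
noncomputable def bcHom (f : D ⊗[D0] A →ₐ[D] M) (T : Type u) [CommRing T] [Algebra D T] [Algebra D0 T]
    [IsScalarTower D0 D T] : T ⊗[D0] A →ₐ[T] T ⊗[D] M :=
  (Algebra.TensorProduct.map (AlgHom.id T T) f).comp
    (Algebra.TensorProduct.cancelBaseChange D0 D T T A).symm.toAlgHom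

theorem bcHom_tmul (f : D ⊗[D0] A →ₐ[D] M) (T : Type u) [CommRing T] [Algebra D T] [Algebra D0 T]
    [IsScalarTower D0 D T] (t : T) (a : A) : bcHom f T (t ⊗ₜ a) = t ⊗ₜ f (1 ⊗ₜ a) := by
  simp [bcHom]

theorem bcHom_etale_iff (f : D ⊗[D0] A →ₐ[D] M) (T : Type u) [CommRing T] [Algebra D T] [Algebra D0 T]
    [IsScalarTower D0 D T] :
    (bcHom f T).toRingHom.Etale ↔
      letI := f.toRingHom.toAlgebra
      Algebra.Etale ((D ⊗[D0] A) ⊗[D] T) (((D ⊗[D0] A) ⊗[D] T) ⊗[D ⊗[D0] A] M) := by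
  letI := f.toRingHom.toAlgebra
  haveI : IsScalarTower D (D ⊗[D0] A) M := IsScalarTower.of_algebraMap_eq fun d => (f.commutes d).symm
  let e₁ : T ⊗[D0] A ≃+* (D ⊗[D0] A) ⊗[D] T :=
    (Algebra.TensorProduct.cancelBaseChange D0 D T T A).symm.toRingEquiv.trans
      (Algebra.TensorProduct.comm D T (D ⊗[D0] A)).toRingEquiv
  let e₂ : T ⊗[D] M ≃+* ((D ⊗[D0] A) ⊗[D] T) ⊗[D ⊗[D0] A] M :=
    ((Algebra.TensorProduct.comm D T M).toRingEquiv.trans
      (Algebra.TensorProduct.cancelBaseChange D (D ⊗[D0] A) (D ⊗[D0] A) M T).symm.toRingEquiv).trans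
      (Algebra.TensorProduct.comm (D ⊗[D0] A) M ((D ⊗[D0] A) ⊗[D] T)).toRingEquiv
  have key : ∀ x, e₂ (bcHom f T x) = e₁ x ⊗ₜ[D ⊗[D0] A] (1 : M) := by
    intro x
    induction x with
    | zero => simp
    | add x y hx hy => simp only [map_add, hx, hy, TensorProduct.add_tmul]
    | tmul t a =>
      rw [bcHom_tmul]
      simp [e₁, e₂]
      rw [show f (1 ⊗ₜ a) = (1 ⊗ₜ[D0] a : D ⊗[D0] A) • (1 : M) by
        rw [Algebra.smul_def, mul_one]; rfl, TensorProduct.tmul_smul, TensorProduct.smul_tmul',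
        TensorProduct.smul_tmul', smul_eq_mul, mul_one]
  rw [← RingHom.etale_algebraMap]
  exact etale_iff_square _ _ e₁ e₂ key

theorem bcHom_etale (f : D ⊗[D0] A →ₐ[D] M) (hf : f.toRingHom.Etale) (T : Type u) [CommRing T]
    [Algebra D T] [Algebra D0 T] [IsScalarTower D0 D T] : (bcHom f T).toRingHom.Etale := by
  rw [bcHom_etale_iff]
  letI := f.toRingHom.toAlgebra
  haveI : Algebra.Etale (D ⊗[D0] A) M := hf
  infer_instance

theorem bcHom_etale_of_algHom (f : D ⊗[D0] A →ₐ[D] M) (T T' : Type u) [CommRing T] [CommRing T']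
    [Algebra D T] [Algebra D T'] [Algebra D0 T] [Algebra D0 T'] [IsScalarTower D0 D T] [IsScalarTower D0 D T']
    (g : T →ₐ[D] T') (h : (bcHom f T).toRingHom.Etale) : (bcHom f T').toRingHom.Etale := by
  rw [bcHom_etale_iff] at h ⊢
  letI := f.toRingHom.toAlgebra
  exact etale_tensor_of_algHom (Algebra.TensorProduct.map (AlgHom.id (D ⊗[D0] A) (D ⊗[D0] A)) g) h

variable {L : Type u} [CommRing L] [Algebra D L] [Algebra D0 L] [IsScalarTower D0 D L]

/-- A homomorphism which is etale after extension to an algebra is etale over a finitely generated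
subalgebra. -/
theorem exists_bcHom_etale [IsNoetherianRing D] [Algebra.FiniteType D0 A] [Algebra.FiniteType D M]
    (f : D ⊗[D0] A →ₐ[D] M) (h : (bcHom f L).toRingHom.Etale) :
    ∃ S : Subalgebra D L, S.FG ∧ ∀ S' : Subalgebra D L, S ≤ S' → (bcHom f S').toRingHom.Etale := by
  rw [bcHom_etale_iff] at h
  let X := D ⊗[D0] A
  letI := f.toRingHom.toAlgebra
  haveI : IsScalarTower D X M := IsScalarTower.of_algebraMap_eq fun d => (f.commutes d).symm
  haveI : IsNoetherianRing X := Algebra.FiniteType.isNoetherianRing D X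
  haveI : Algebra.FiniteType X M := Algebra.FiniteType.of_restrictScalars_finiteType D X M
  haveI : Algebra.FinitePresentation X M := Algebra.FinitePresentation.of_finiteType.1 inferInstance
  let ι := {S : Subalgebra D L // S.FG}
  haveI : Nonempty ι := ⟨⟨⊥, Subalgebra.fg_bot⟩⟩
  haveI : IsDirected ι (· ≤ ·) := ⟨fun a b => ⟨⟨a.1 ⊔ b.1, a.2.sup b.2⟩,
    (le_sup_left : a.1 ≤ a.1 ⊔ b.1), (le_sup_right : b.1 ≤ a.1 ⊔ b.1)⟩⟩
  have hG := H02CA.ColimTensor.approx_of_directed (g := fun S : ι => S.1.val)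
    (fun S T hST => Subalgebra.inclusion hST) (fun _ _ _ => rfl)
    (fun l => ⟨⟨Algebra.adjoin D (({l} : Finset L) : Set L), Subalgebra.fg_adjoin_finset _⟩,
      ⟨l, Algebra.subset_adjoin (Finset.mem_singleton_self l)⟩, rfl⟩)
    (fun S x hx => ⟨S, le_rfl, Subtype.ext hx⟩)
  obtain ⟨S, hS⟩ := H02CA.ColimDescent.etale_stage (B₀ := X) hG M h
  refine ⟨S.1, S.2, fun S' hS' => bcHom_etale_of_algHom f S.1 S' (Subalgebra.inclusion hS') ?_⟩
  rw [bcHom_etale_iff]
  exact hS

/-- Finitely many elements of an extension to `L` come from a finitely generated subalgebra. -/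
theorem exists_lift_subalgebra {D0 L : Type u} [CommRing D0] [CommRing L] [Algebra D0 L] (P : Type u)
    [CommRing P] [Algebra D0 P] {m : ℕ} (z : Fin m → L ⊗[D0] P) :
    ∃ D : Subalgebra D0 L, D.FG ∧ ∀ t, ∃ x : D ⊗[D0] P,
      Algebra.TensorProduct.map (Algebra.ofId D L) (AlgHom.id D0 P) x = z t := by
  classical
  let ι := {S : Subalgebra D0 L // S.FG}
  haveI : Nonempty ι := ⟨⟨⊥, Subalgebra.fg_bot⟩⟩
  haveI : IsDirected ι (· ≤ ·) := ⟨fun a b => ⟨⟨a.1 ⊔ b.1, a.2.sup b.2⟩,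
    (le_sup_left : a.1 ≤ a.1 ⊔ b.1), (le_sup_right : b.1 ≤ a.1 ⊔ b.1)⟩⟩
  have hG := H02CA.ColimTensor.approx_of_directed (g := fun S : ι => S.1.val)
    (fun S T hST => Subalgebra.inclusion hST) (fun _ _ _ => rfl)
    (fun l => ⟨⟨Algebra.adjoin D0 (({l} : Finset L) : Set L), Subalgebra.fg_adjoin_finset _⟩,
      ⟨l, Algebra.subset_adjoin (Finset.mem_singleton_self l)⟩, rfl⟩)
    (fun S x hx => ⟨S, le_rfl, Subtype.ext hx⟩)
  obtain ⟨j, -, x, hx⟩ := (H02CA.ColimDescent.approxE (B₀ := P) hG).exists_lift (fun _ => 0)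
    (Classical.arbitrary ι) (Finset.univ : Finset (Fin m)) fun t => Algebra.TensorProduct.comm D0 L P (z t)
  refine ⟨j.1, j.2, fun t => ⟨Algebra.TensorProduct.comm D0 P j.1 (x t), ?_⟩⟩
  apply (Algebra.TensorProduct.comm D0 L P).injective
  rw [← hx t (Finset.mem_univ t)]
  generalize x t = w
  induction w using TensorProduct.induction_on with
  | zero => simp
  | tmul p d => simp [H02CA.ColimDescent.uE]
  | add a b ha hb => simp only [map_add, ha, hb]

/-- A presentation of an extended algebra gives a model of it. -/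
theorem exists_bijective_model {D0 D L P E : Type u} [CommRing D0] [CommRing D] [CommRing L] [CommRing P]
    [CommRing E] [Algebra D0 D] [Algebra D0 L] [Algebra D L] [IsScalarTower D0 D L] [Algebra D0 P]
    [Algebra L E] [Algebra D E] [IsScalarTower D L E] (π : L ⊗[D0] P →ₐ[L] E) (hπs : Function.Surjective π)
    {m : ℕ} (z : Fin m → L ⊗[D0] P) (hz : RingHom.ker π.toRingHom ≤ Ideal.span (Set.range z))
    (hz' : ∀ t, π (z t) = 0) (x : Fin m → D ⊗[D0] P)
    (hx : ∀ t, Algebra.TensorProduct.map (Algebra.ofId D L) (AlgHom.id D0 P) (x t) = z t) :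
    ∃ χ : ((D ⊗[D0] P) ⧸ Ideal.span (Set.range x)) →ₐ[D] E,
      (∀ w, χ (Ideal.Quotient.mk _ w) = π (Algebra.TensorProduct.map (Algebra.ofId D L) (AlgHom.id D0 P) w)) ∧
      Function.Bijective (Algebra.TensorProduct.lift (Algebra.ofId L E) χ fun _ _ => Commute.all _ _) := by
  let up : D ⊗[D0] P →ₐ[D] L ⊗[D0] P := Algebra.TensorProduct.map (Algebra.ofId D L) (AlgHom.id D0 P)
  let J : Ideal (D ⊗[D0] P) := Ideal.span (Set.range x)
  let χ0 : D ⊗[D0] P →ₐ[D] E := (π.restrictScalars D).comp up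
  let χ : (D ⊗[D0] P) ⧸ J →ₐ[D] E := Ideal.Quotient.liftₐ J χ0 fun w hw => by
    refine (Ideal.span_le.2 ?_ : J ≤ RingHom.ker χ0.toRingHom) hw
    rintro _ ⟨t, rfl⟩
    show π (up _) = 0
    rw [hx]
    exact hz' t
  refine ⟨χ, fun w => rfl, ?_⟩
  let Ψ := bcHom (Ideal.Quotient.mkₐ D J) L
  let Φ : L ⊗[D] ((D ⊗[D0] P) ⧸ J) →ₐ[L] E :=
    Algebra.TensorProduct.lift (Algebra.ofId L E) χ fun _ _ => Commute.all _ _
  have hΦ : ∀ l w, Φ (l ⊗ₜ w) = algebraMap L E l * χ w := fun l w => Algebra.TensorProduct.lift_tmul _ _ _ _ _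
  have hΦΨ : ∀ w, Φ (Ψ w) = π w := by
    intro w
    induction w with
    | zero => simp
    | add a b ha hb => simp only [map_add, ha, hb]
    | tmul l p =>
      rw [bcHom_tmul, hΦ]
      show _ * π (up ((1 : D) ⊗ₜ[D0] p)) = _
      simp only [up, Algebra.TensorProduct.map_tmul, map_one, AlgHom.coe_id, id_eq]
      rw [← Algebra.smul_def, ← map_smul, TensorProduct.smul_tmul', smul_eq_mul, mul_one]
  have hΨs : Function.Surjective Ψ :=
    (Algebra.TensorProduct.map_surjective (AlgHom.id L L) _ Function.surjective_id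
      Ideal.Quotient.mk_surjective).comp (Algebra.TensorProduct.cancelBaseChange D0 D L L P).symm.surjective
  have hΨz : ∀ w, Ψ (up w) = 1 ⊗ₜ[D] Ideal.Quotient.mk J w := by
    intro w
    induction w with
    | zero => simp
    | add a b ha hb => simp only [map_add, ha, hb, TensorProduct.tmul_add]
    | tmul d p =>
      simp only [up, Algebra.TensorProduct.map_tmul, Algebra.ofId_apply, AlgHom.coe_id, id_eq]
      rw [bcHom_tmul, Algebra.algebraMap_eq_smul_one, TensorProduct.smul_tmul, Ideal.Quotient.mkₐ_eq_mk,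
        ← Ideal.Quotient.mkₐ_eq_mk D, ← map_smul, TensorProduct.smul_tmul', smul_eq_mul, mul_one]
  have hker : RingHom.ker π.toRingHom ≤ RingHom.ker Ψ.toRingHom := by
    refine hz.trans (Ideal.span_le.2 ?_)
    rintro _ ⟨t, rfl⟩
    show Ψ (z t) = 0
    rw [← hx, hΨz, Ideal.Quotient.eq_zero_iff_mem.2 (Ideal.subset_span (Set.mem_range_self t)),
      TensorProduct.tmul_zero]
  refine ⟨(injective_iff_map_eq_zero Φ).2 fun y hy => ?_, fun e => ?_⟩
  · obtain ⟨w, rfl⟩ := hΨs y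
    exact hker (show π w = 0 by rw [← hΦΨ, hy])
  · obtain ⟨w, rfl⟩ := hπs e
    exact ⟨Ψ w, hΦΨ w⟩

/-- The model given by a presentation over a stage. -/
theorem exists_etale_model_stage {D0 L E A B P D : Type u} [CommRing D0] [IsNoetherianRing D0] [CommRing L]
    [IsNoetherianRing L] [Algebra D0 L] [CommRing E] [CommRing A] [Algebra D0 A] [Algebra.FiniteType D0 A]
    [CommRing B] [Algebra D0 B] [Algebra.FiniteType D0 B] [CommRing P] [Algebra D0 P] [Algebra.FiniteType D0 P]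
    [Algebra L E] [CommRing D] [IsNoetherianRing D] [Algebra D0 D] [Algebra.FiniteType D0 D] [Algebra D L]
    [IsScalarTower D0 D L] [Algebra D E] [IsScalarTower D L E] (eA : L ⊗[D0] A →+* E) (eB : L ⊗[D0] B →+* E) (hA : eA.Etale) (hB : eB.Etale)
    (hlA : ∀ l : L, eA (l ⊗ₜ 1) = algebraMap L E l) (hlB : ∀ l : L, eB (l ⊗ₜ 1) = algebraMap L E l)
    (π : L ⊗[D0] P →ₐ[L] E) (hπs : Function.Surjective π) (ιA : A →ₐ[D0] P) (ιB : B →ₐ[D0] P)
    {m : ℕ} (z : Fin m → L ⊗[D0] P)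
    (hz : Submodule.span (L ⊗[D0] P) (Set.range z) = RingHom.ker π.toRingHom) (x : Fin m → D ⊗[D0] P)
    (hx : ∀ t, Algebra.TensorProduct.map (Algebra.ofId D L) (AlgHom.id D0 P) (x t) = z t)
    (hιA : ∀ a, π (1 ⊗ₜ ιA a) = eA (1 ⊗ₜ a)) (hιB : ∀ b, π (1 ⊗ₜ ιB b) = eB (1 ⊗ₜ b)) :
    ∃ (D : Type u) (_ : CommRing D) (_ : Algebra D0 D), Algebra.FiniteType D0 D ∧
      ∃ (π : D →ₐ[D0] L) (M : Type u) (_ : CommRing M) (_ : Algebra D M)
        (fA : D ⊗[D0] A →ₐ[D] M) (fB : D ⊗[D0] B →ₐ[D] M),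
        fA.toRingHom.Etale ∧ fB.toRingHom.Etale ∧ ∃ χ : M →+* E,
          (∀ d, χ (algebraMap D M d) = eA (π d ⊗ₜ 1)) ∧
          (∀ a, χ (fA (1 ⊗ₜ a)) = eA (1 ⊗ₜ a)) ∧ ∀ b, χ (fB (1 ⊗ₜ b)) = eB (1 ⊗ₜ b) := by
  obtain ⟨χ, hχ, hΦb⟩ := exists_bijective_model π hπs z hz.ge
    (fun t => hz.le (Submodule.subset_span ⟨t, rfl⟩)) x hx
  let J : Ideal (D ⊗[D0] P) := Ideal.span (Set.range x)
  let Φ : L ⊗[D] ((D ⊗[D0] P) ⧸ J) →ₐ[L] E :=
    Algebra.TensorProduct.lift (Algebra.ofId L E) χ fun _ _ => Commute.all _ _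
  have hΦ : ∀ l w, Φ (l ⊗ₜ w) = algebraMap L E l * χ w := fun l w => Algebra.TensorProduct.lift_tmul _ _ _ _ _
  have hΦb' : Function.Bijective Φ := hΦb
  haveI : Algebra.FiniteType D (D ⊗[D0] P) := inferInstance
  haveI : Algebra.FiniteType D ((D ⊗[D0] P) ⧸ J) :=
    Algebra.FiniteType.of_surjective (Ideal.Quotient.mkₐ D J) Ideal.Quotient.mk_surjective
  -- the two maps
  let fA : D ⊗[D0] A →ₐ[D] (D ⊗[D0] P) ⧸ J :=
    (Ideal.Quotient.mkₐ D J).comp (Algebra.TensorProduct.map (AlgHom.id D D) ιA)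
  let fB : D ⊗[D0] B →ₐ[D] (D ⊗[D0] P) ⧸ J :=
    (Ideal.Quotient.mkₐ D J).comp (Algebra.TensorProduct.map (AlgHom.id D D) ιB)
  have hfA : ∀ a, χ (fA (1 ⊗ₜ a)) = eA (1 ⊗ₜ a) := fun a => by
    refine (hχ _).trans ?_
    simp [hιA]
  have hfB : ∀ b, χ (fB (1 ⊗ₜ b)) = eB (1 ⊗ₜ b) := fun b => by
    refine (hχ _).trans ?_
    simp [hιB]
  have hLA : (bcHom fA L).toRingHom.Etale := by
    refine (etale_iff_square _ eA (RingEquiv.refl _) (AlgEquiv.ofBijective Φ hΦb').toRingEquiv fun w => ?_).2 hA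
    show Φ (bcHom fA L w) = eA w
    induction w with
    | zero => simp
    | add a b ha hb => simp only [map_add, ha, hb]
    | tmul l a =>
      rw [bcHom_tmul, hΦ, hfA]
      rw [← hlA, ← map_mul, Algebra.TensorProduct.tmul_mul_tmul, mul_one, one_mul]
  have hLB : (bcHom fB L).toRingHom.Etale := by
    refine (etale_iff_square _ eB (RingEquiv.refl _) (AlgEquiv.ofBijective Φ hΦb').toRingEquiv fun w => ?_).2 hB
    show Φ (bcHom fB L w) = eB w
    induction w with
    | zero => simp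
    | add a b ha hb => simp only [map_add, ha, hb]
    | tmul l a =>
      rw [bcHom_tmul, hΦ, hfB]
      rw [← hlB, ← map_mul, Algebra.TensorProduct.tmul_mul_tmul, mul_one, one_mul]
  obtain ⟨SA, hSAfg, hSA⟩ := exists_bcHom_etale fA hLA
  obtain ⟨SB, hSBfg, hSB⟩ := exists_bcHom_etale fB hLB
  let S := SA ⊔ SB
  haveI : Algebra.FiniteType D S := (Subalgebra.fg_iff_finiteType _).1 (hSAfg.sup hSBfg)
  let up' : S ⊗[D] ((D ⊗[D0] P) ⧸ J) →ₐ[D] L ⊗[D] ((D ⊗[D0] P) ⧸ J) :=
    Algebra.TensorProduct.map S.val (AlgHom.id D _)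
  refine ⟨S, inferInstance, inferInstance, Algebra.FiniteType.trans (R := D0) (S := D) (A := S)
    inferInstance inferInstance, S.val.restrictScalars D0, S ⊗[D] ((D ⊗[D0] P) ⧸ J), inferInstance,
    inferInstance, bcHom fA S, bcHom fB S, hSA S le_sup_left, hSB S le_sup_right,
    Φ.toRingHom.comp up'.toRingHom, fun d => ?_, fun a => ?_, fun b => ?_⟩
  · simp only [RingHom.comp_apply, AlgHom.toRingHom_eq_coe, RingHom.coe_coe]
    simp only [up', Algebra.TensorProduct.algebraMap_apply, Algebra.algebraMap_self, RingHom.id_apply,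
      Algebra.TensorProduct.map_tmul, map_one, hΦ, mul_one]
    exact (hlA _).symm
  · simp only [RingHom.comp_apply, AlgHom.toRingHom_eq_coe, RingHom.coe_coe]
    rw [bcHom_tmul]
    simp only [up', Algebra.TensorProduct.map_tmul, map_one, hΦ, one_mul, AlgHom.coe_id, id_eq, hfA]
  · simp only [RingHom.comp_apply, AlgHom.toRingHom_eq_coe, RingHom.coe_coe]
    rw [bcHom_tmul]
    simp only [up', Algebra.TensorProduct.map_tmul, map_one, hΦ, one_mul, AlgHom.coe_id, id_eq, hfB]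

/-- The model given by a presentation compatible with two algebras. -/
theorem exists_etale_model_aux {D0 L E A B P : Type u} [CommRing D0] [IsNoetherianRing D0] [CommRing L]
    [IsNoetherianRing L] [Algebra D0 L] [CommRing E] [CommRing A] [Algebra D0 A] [Algebra.FiniteType D0 A]
    [CommRing B] [Algebra D0 B] [Algebra.FiniteType D0 B] [CommRing P] [Algebra D0 P] [Algebra.FiniteType D0 P]
    [Algebra L E] (eA : L ⊗[D0] A →+* E) (eB : L ⊗[D0] B →+* E) (hA : eA.Etale) (hB : eB.Etale)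
    (hlA : ∀ l : L, eA (l ⊗ₜ 1) = algebraMap L E l) (hlB : ∀ l : L, eB (l ⊗ₜ 1) = algebraMap L E l)
    (π : L ⊗[D0] P →ₐ[L] E) (hπs : Function.Surjective π) (ιA : A →ₐ[D0] P) (ιB : B →ₐ[D0] P)
    (hιA : ∀ a, π (1 ⊗ₜ ιA a) = eA (1 ⊗ₜ a)) (hιB : ∀ b, π (1 ⊗ₜ ιB b) = eB (1 ⊗ₜ b)) :
    ∃ (D : Type u) (_ : CommRing D) (_ : Algebra D0 D), Algebra.FiniteType D0 D ∧
      ∃ (π : D →ₐ[D0] L) (M : Type u) (_ : CommRing M) (_ : Algebra D M)
        (fA : D ⊗[D0] A →ₐ[D] M) (fB : D ⊗[D0] B →ₐ[D] M),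
        fA.toRingHom.Etale ∧ fB.toRingHom.Etale ∧ ∃ χ : M →+* E,
          (∀ d, χ (algebraMap D M d) = eA (π d ⊗ₜ 1)) ∧
          (∀ a, χ (fA (1 ⊗ₜ a)) = eA (1 ⊗ₜ a)) ∧ ∀ b, χ (fB (1 ⊗ₜ b)) = eB (1 ⊗ₜ b) := by
  haveI : IsNoetherianRing (L ⊗[D0] P) := Algebra.FiniteType.isNoetherianRing L (L ⊗[D0] P)
  obtain ⟨m, z, hz⟩ := Submodule.fg_iff_exists_fin_generating_family.1
    (IsNoetherian.noetherian (RingHom.ker π.toRingHom))
  -- the stage
  obtain ⟨D, hD, hlift⟩ := exists_lift_subalgebra P z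
  choose x hx using hlift
  haveI : Algebra.FiniteType D0 D := (Subalgebra.fg_iff_finiteType _).1 hD
  haveI : IsNoetherianRing D := Algebra.FiniteType.isNoetherianRing D0 D
  exact exists_etale_model_stage (D := D) eA eB hA hB hlA hlB π hπs ιA ιB z hz x hx hιA hιB

/-- An algebra etale over two algebras extended to `L` descends to a finitely generated algebra with a
map to `L`. -/
theorem exists_etale_model {D0 L E A B : Type u} [CommRing D0] [IsNoetherianRing D0] [CommRing L]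
    [IsNoetherianRing L] [Algebra D0 L] [CommRing E] [CommRing A] [Algebra D0 A] [Algebra.FiniteType D0 A]
    [CommRing B] [Algebra D0 B] [Algebra.FiniteType D0 B] (eA : L ⊗[D0] A →+* E) (eB : L ⊗[D0] B →+* E)
    (hA : eA.Etale) (hB : eB.Etale) (hcomm : ∀ l : L, eA (l ⊗ₜ 1) = eB (l ⊗ₜ 1)) :
    ∃ (D : Type u) (_ : CommRing D) (_ : Algebra D0 D), Algebra.FiniteType D0 D ∧
      ∃ (π : D →ₐ[D0] L) (M : Type u) (_ : CommRing M) (_ : Algebra D M)
        (fA : D ⊗[D0] A →ₐ[D] M) (fB : D ⊗[D0] B →ₐ[D] M),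
        fA.toRingHom.Etale ∧ fB.toRingHom.Etale ∧ ∃ χ : M →+* E,
          (∀ d, χ (algebraMap D M d) = eA (π d ⊗ₜ 1)) ∧
          (∀ a, χ (fA (1 ⊗ₜ a)) = eA (1 ⊗ₜ a)) ∧ ∀ b, χ (fB (1 ⊗ₜ b)) = eB (1 ⊗ₜ b) := by
  classical
  letI : Algebra L E := (eA.comp Algebra.TensorProduct.includeLeftRingHom).toAlgebra
  letI : Algebra D0 E := ((algebraMap L E).comp (algebraMap D0 L)).toAlgebra
  haveI : IsScalarTower D0 L E := IsScalarTower.of_algebraMap_eq fun _ => rfl
  let eA' : L ⊗[D0] A →ₐ[L] E := { eA with commutes' := fun _ => rfl }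
  let eB' : L ⊗[D0] B →ₐ[L] E := { eB with commutes' := fun l => (hcomm l).symm }
  let gA : A →ₐ[D0] E := (eA'.restrictScalars D0).comp Algebra.TensorProduct.includeRight
  let gB : B →ₐ[D0] E := (eB'.restrictScalars D0).comp Algebra.TensorProduct.includeRight
  haveI : Algebra.FiniteType L E := by
    letI := eA.toAlgebra
    haveI : IsScalarTower L (L ⊗[D0] A) E := IsScalarTower.of_algebraMap_eq fun _ => rfl
    haveI : Algebra.Etale (L ⊗[D0] A) E := hA
    exact Algebra.FiniteType.trans (R := L) (S := L ⊗[D0] A) (A := E) inferInstance inferInstance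
  obtain ⟨n, pol, hpol⟩ := Algebra.FiniteType.iff_quotient_mvPolynomial''.1 (inferInstance : Algebra.FiniteType L E)
  let P := (A ⊗[D0] B) ⊗[D0] MvPolynomial (Fin n) D0
  haveI : Algebra.FiniteType D0 (A ⊗[D0] B) :=
    Algebra.FiniteType.trans (R := D0) (S := A) (A := A ⊗[D0] B) inferInstance inferInstance
  haveI : Algebra.FiniteType D0 P :=
    Algebra.FiniteType.trans (R := D0) (S := A ⊗[D0] B) (A := P) inferInstance inferInstance
  let π0 : P →ₐ[D0] E := Algebra.TensorProduct.lift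
    (Algebra.TensorProduct.lift gA gB fun _ _ => Commute.all _ _)
    (MvPolynomial.aeval fun i => pol (MvPolynomial.X i)) fun _ _ => Commute.all _ _
  let π : L ⊗[D0] P →ₐ[L] E := Algebra.TensorProduct.lift (Algebra.ofId L E) π0 fun _ _ => Commute.all _ _
  have hπt : ∀ l p, π (l ⊗ₜ p) = algebraMap L E l * π0 p := fun l p => Algebra.TensorProduct.lift_tmul _ _ _ _ _
  have hπs : Function.Surjective π := by
    intro e
    obtain ⟨q, rfl⟩ := hpol e
    let Xg : Fin n → L ⊗[D0] P := fun i =>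
      (1 : L) ⊗ₜ[D0] ((1 : A ⊗[D0] B) ⊗ₜ[D0] (MvPolynomial.X i : MvPolynomial (Fin n) D0))
    have : pol = π.comp (MvPolynomial.aeval Xg) :=
      MvPolynomial.algHom_ext fun i => by
      simp only [Xg, AlgHom.comp_apply, MvPolynomial.aeval_X, hπt, map_one, one_mul, π0]
      exact ((Algebra.TensorProduct.lift_tmul _ _ _ _ _).trans (by simp)).symm
    exact ⟨_, (AlgHom.congr_fun this q).symm⟩
  let ιA : A →ₐ[D0] P := Algebra.TensorProduct.includeLeft.comp Algebra.TensorProduct.includeLeft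
  let ιB : B →ₐ[D0] P := Algebra.TensorProduct.includeLeft.comp Algebra.TensorProduct.includeRight
  exact exists_etale_model_aux eA eB hA hB (fun _ => rfl) (fun l => (hcomm l).symm) π hπs ιA ιB
    (fun a => by
      rw [hπt, map_one, one_mul]
      refine (Algebra.TensorProduct.lift_tmul _ _ _ (a ⊗ₜ 1) 1).trans ?_
      rw [Algebra.TensorProduct.lift_tmul, map_one, map_one, mul_one, mul_one]
      rfl)
    (fun b => by
      rw [hπt, map_one, one_mul]
      refine (Algebra.TensorProduct.lift_tmul _ _ _ (1 ⊗ₜ b) 1).trans ?_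
      rw [Algebra.TensorProduct.lift_tmul, map_one, map_one, one_mul, mul_one]
      rfl)

end Groth.Agent.H8Props.Approx
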