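import Groth.Agent.H8Props.Approx.Scheme

/-!
# Common etale neighbourhoods of points with isomorphic completions
-/

set_option autoImplicit false
set_option linter.style.haveILetI false

universe u

open CategoryTheory AlgebraicGeometry IsLocalRing

namespace Groth.Agent.H8Props.Approx

variable {X Y U S : Scheme.{u}}

theorem flat_stalkMap (f : U ⟶ X) (u : U) {x : X} (h : f u = x) (hf : (stalkTo f u h).hom.Flat) :
    (f.stalkMap u).hom.Flat := by
  subst h
  rwa [stalkTo_self] at hf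

theorem map_maximalIdeal_stalkMap (f : U ⟶ X) (u : U) {x : X} (h : f u = x)
    (hf : (maximalIdeal (X.presheaf.stalk x)).map (stalkTo f u h).hom = maximalIdeal (U.presheaf.stalk u)) :
    (maximalIdeal (X.presheaf.stalk (f u))).map (f.stalkMap u).hom = maximalIdeal (U.presheaf.stalk u) := by
  subst h
  rwa [stalkTo_self] at hf

theorem stalkTo_comp_ι (f : U ⟶ X) (W : U.Opens) (w : W) {x : X} (h : f w.1 = x) :
    stalkTo (W.ι ≫ f) w h = stalkTo f w.1 h ≫ W.ι.stalkMap w := by
  subst h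
  rw [stalkTo_self, ← Category.comp_id (stalkTo (W.ι ≫ f) w _)]
  simp only [stalkTo, Scheme.Hom.stalkMap_comp]
  simp

/-- Points with isomorphic completed local rings have a common etale neighbourhood, approximating the
isomorphism. -/
theorem exists_common_nbhd [IsLocallyNoetherian S] [IsLocallyNoetherian X] [IsLocallyNoetherian Y]
    (p : X ⟶ S) (q : Y ⟶ S) [LocallyOfFiniteType p]
    [LocallyOfFiniteType q] (x : X) (y : Y) (hxy : p x = q y)
    (hG : CAlg.IsGRing ↑(S.presheaf.stalk (p x)))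
    (φ : AdicCompletion (maximalIdeal ↑(Y.presheaf.stalk y)) ↑(Y.presheaf.stalk y) ≃+*
      AdicCompletion (maximalIdeal ↑(X.presheaf.stalk x)) ↑(X.presheaf.stalk x))
    (hφ : φ.toRingHom.comp ((algebraMap ↑(Y.presheaf.stalk y) (AdicCompletion (maximalIdeal ↑(Y.presheaf.stalk y))
        ↑(Y.presheaf.stalk y))).comp
        ((q.stalkMap y).hom.comp (S.presheaf.stalkCongr (Inseparable.of_eq hxy)).hom.hom)) =
      (algebraMap ↑(X.presheaf.stalk x) (AdicCompletion (maximalIdeal ↑(X.presheaf.stalk x))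
        ↑(X.presheaf.stalk x))).comp (p.stalkMap x).hom)
    (N : ℕ) :
    ∃ (U : Scheme.{u}) (u : U) (e : U ⟶ X) (heu : e u = x) (f : U ⟶ Y) (hfu : f u = y),
      Etale e ∧ Function.Bijective (e.residueFieldMap u) ∧ Etale f ∧ Function.Bijective (f.residueFieldMap u) ∧
      f ≫ q = e ≫ p ∧
      ∀ (b : AdicCompletion (maximalIdeal ↑(Y.presheaf.stalk y)) ↑(Y.presheaf.stalk y))
        (cY : ↑(Y.presheaf.stalk y)) (cX : ↑(X.presheaf.stalk x)),
        AdicCompletion.evalₐ (maximalIdeal ↑(Y.presheaf.stalk y)) N b = Ideal.Quotient.mk _ cY →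
        AdicCompletion.evalₐ (maximalIdeal ↑(X.presheaf.stalk x)) N (φ b) = Ideal.Quotient.mk _ cX →
        Ideal.Quotient.mk (maximalIdeal ↑(U.presheaf.stalk u) ^ N) ((stalkTo f u hfu).hom cY) =
          Ideal.Quotient.mk (maximalIdeal ↑(U.presheaf.stalk u) ^ N) ((stalkTo e u heu).hom cX) := by
  let LX := AdicCompletion (maximalIdeal ↑(X.presheaf.stalk x)) ↑(X.presheaf.stalk x)
  let LY := AdicCompletion (maximalIdeal ↑(Y.presheaf.stalk y)) ↑(Y.presheaf.stalk y)
  let canY : ↑(Y.presheaf.stalk y) →+* LY := algebraMap _ _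
  have hmax : (maximalIdeal LY).map (φ : LY →+* LX) = maximalIdeal LX := by
    haveI : ((maximalIdeal LY).map (φ : LY →+* LX)).IsMaximal := Ideal.map_isMaximal_of_equiv φ
    exact IsLocalRing.eq_maximalIdeal this
  have hpowφ : ∀ (j : ℕ) (b : LY), b ∈ maximalIdeal LY ^ j → φ b ∈ maximalIdeal LX ^ j := fun j b hb => by
    rw [← hmax, ← Ideal.map_pow]
    exact Ideal.mem_map_of_mem (φ : LY →+* LX) hb
  obtain ⟨U₀, e, u, heu, f, hfu, he, hres, hcomm, ψ, hψloc, hψc, hψb, hψ, hpow⟩ :=
    exists_approx p q x y hxy hG (φ.toRingHom.comp canY) hφ (fun b hb => by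
      rw [← maximalIdeal_completion, ← pow_one (maximalIdeal LX)]
      refine hpowφ 1 _ ?_
      rw [pow_one, maximalIdeal_completion]
      exact Ideal.mem_map_of_mem _ hb) (N + 1)
  haveI := he
  haveI : LocallyOfFiniteType (f ≫ q) := by rw [hcomm]; infer_instance
  haveI : LocallyOfFiniteType f := locallyOfFiniteType_of_comp f q
  haveI : IsLocallyNoetherian U₀ := LocallyOfFiniteType.isLocallyNoetherian e
  let Ou := U₀.presheaf.stalk u
  let m := maximalIdeal ↑Ou
  -- every element of the local ring of the neighbourhood comes from `Y` modulo any of the first powers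
  have hY : ∀ j ≤ N + 2, ∀ z : ↑Ou, ∃ b, z - (stalkTo f u hfu).hom b ∈ m ^ j := by
    intro j hj z
    obtain ⟨b, hb⟩ := exists_evalₐ_eq (N + 2) (φ.symm (ψ z))
    refine ⟨b, hψ _ j (Ideal.pow_le_pow_right hj ?_)⟩
    have h1 := hpowφ _ _ hb
    rw [map_sub, RingEquiv.apply_symm_apply] at h1
    have h2 := add_mem h1 (hψb b)
    simp only [RingEquiv.toRingHom_eq_coe, RingHom.comp_apply, RingHom.coe_coe, canY] at h2
    rwa [sub_add_sub_cancel, ← map_sub] at h2
  have hres' : ∀ z : ↑Ou, ∃ b, z - (stalkTo f u hfu).hom b ∈ maximalIdeal ↑Ou := fun z => by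
    simpa [m] using hY 1 (by omega) z
  haveI := isLocalHom_stalkTo f u hfu
  have hm : (maximalIdeal ↑(Y.presheaf.stalk y)).map (stalkTo f u hfu).hom = maximalIdeal ↑Ou := by
    refine le_antisymm (((IsLocalRing.local_hom_TFAE (stalkTo f u hfu).hom).out 0 2).1 (isLocalHom_stalkTo f u hfu))
      (Submodule.le_of_le_smul_of_le_jacobson_bot (IsNoetherian.noetherian _) (maximalIdeal_le_jacobson _)
        fun z hz => ?_)
    obtain ⟨b, hb⟩ := hY 2 (by omega) z
    have hbm : b ∈ maximalIdeal ↑(Y.presheaf.stalk y) := fun h => by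
      have h3 := sub_mem hz (Ideal.pow_le_self two_ne_zero hb)
      rw [sub_sub_cancel] at h3
      exact h3 (h.map (stalkTo f u hfu).hom)
    rw [Submodule.mem_sup]
    exact ⟨_, Ideal.mem_map_of_mem _ hbm, _, by rw [smul_eq_mul, ← pow_two]; exact hb, by ring⟩
  letI : Algebra ↑(Y.presheaf.stalk y) ↑Ou := (stalkTo f u hfu).hom.toAlgebra
  letI : Algebra ↑(X.presheaf.stalk x) ↑Ou := (stalkTo e u heu).hom.toAlgebra
  have hflat : (stalkTo f u hfu).hom.Flat := by
    refine flat_of_truncation_equiv hm hres' fun j => ?_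
    obtain ⟨a⟩ := nonempty_quotient_equiv φ j
    let qe : (↑(X.presheaf.stalk x) ⧸ maximalIdeal ↑(X.presheaf.stalk x) ^ j) →+* (↑Ou ⧸ maximalIdeal ↑Ou ^ j) :=
      Ideal.quotientMap _ (stalkTo e u heu).hom (by
        rw [← Ideal.map_le_iff_le_comap, Ideal.map_pow, map_maximalIdeal_stalkTo e u heu])
    have hqe : Function.Bijective qe := by
      refine ⟨(injective_iff_map_eq_zero qe).2 fun v hv => ?_, fun v => ?_⟩
      · obtain ⟨c, rfl⟩ := Ideal.Quotient.mk_surjective v
        rw [Ideal.quotientMap_mk, Ideal.Quotient.eq_zero_iff_mem] at hv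
        have h1 : ψ ((stalkTo e u heu).hom c) ∈ maximalIdeal LX ^ j := by
          refine Ideal.pow_right_mono (((IsLocalRing.local_hom_TFAE ψ).out 0 2).1 hψloc) j ?_
          rw [← Ideal.map_pow]
          exact Ideal.mem_map_of_mem ψ hv
        rw [hψc, ← evalₐ_eq_zero_iff, H05EGA4.AdicLim.evalₐ_algebraMap] at h1
        exact h1
      · obtain ⟨z, rfl⟩ := Ideal.Quotient.mk_surjective v
        obtain ⟨c, hc⟩ := hpow z j
        exact ⟨Ideal.Quotient.mk _ c, Ideal.quotientMap_mk.trans (Ideal.Quotient.eq.2 hc).symm⟩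
    exact ⟨a.trans (RingEquiv.ofBijective qe hqe)⟩
  have hfres := residueFieldMap_bijective f u hfu hres'
  obtain ⟨W, huW, hW⟩ : ∃ W : U₀.Opens, u ∈ W ∧ Etale (W.ι ≫ f) := by
    refine (H9Hens.etale_nhd_iff f u).2 ⟨flat_stalkMap f u hfu hflat, (H9Hens.stalk_unramified_iff f u).2
      ⟨map_maximalIdeal_stalkMap f u hfu hm, ?_⟩⟩
    letI := (f.residueFieldMap u).hom.toAlgebra
    let ε : Y.residueField (f.base u) ≃ₐ[Y.residueField (f.base u)] U₀.residueField u :=
      AlgEquiv.ofBijective (Algebra.ofId _ _) hfres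
    exact ⟨Module.Finite.equiv ε.toLinearEquiv,
      AlgEquiv.Algebra.isSeparable ε⟩
  let w : W := ⟨u, huW⟩
  have hι : Function.Bijective (W.ι.residueFieldMap w) :=
    ConcreteCategory.bijective_of_isIso (W.ι.residueFieldMap w)
  refine ⟨W, w, W.ι ≫ e, heu, W.ι ≫ f, hfu, inferInstance, ?_, hW, ?_, by rw [Category.assoc, hcomm, Category.assoc],
    fun b cY cX h1 h2 => ?_⟩
  · rw [Scheme.residueFieldMap_comp]
    exact hι.comp hres
  · rw [Scheme.residueFieldMap_comp]
    exact hι.comp hfres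
  · rw [stalkTo_comp_ι e W w heu, stalkTo_comp_ι f W w hfu, Ideal.Quotient.eq]
    simp only [CommRingCat.hom_comp, RingHom.comp_apply, ← map_sub]
    have h3 : (stalkTo f u hfu).hom cY - (stalkTo e u heu).hom cX ∈ m ^ N := by
      refine hψ _ N ?_
      have i1 := (evalₐ_eq_mk_iff N b cY).1 h1
      have i2 := (evalₐ_eq_mk_iff N (φ b) cX).1 h2
      have i3 := hpowφ _ _ i1
      rw [map_sub] at i3
      have i4 := sub_mem (sub_mem i2 i3) (Ideal.pow_le_pow_right (show N ≤ N + 2 by omega) (hψb cY))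
      rw [map_sub, hψc, RingHom.comp_apply] at *
      convert i4 using 1
      simp only [RingEquiv.toRingHom_eq_coe, RingHom.coe_coe, canY]
      abel
    have h4 : (maximalIdeal ↑Ou ^ N).map (W.ι.stalkMap w).hom ≤ maximalIdeal ↑(W.toScheme.presheaf.stalk w) ^ N := by
      rw [Ideal.map_pow]
      exact Ideal.pow_right_mono
        (((IsLocalRing.local_hom_TFAE (W.ι.stalkMap w).hom).out 0 2).1
        (inferInstance : IsLocalHom (W.ι.stalkMap w).hom)) N
    exact h4 (Ideal.mem_map_of_mem _ h3)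

end Groth.Agent.H8Props.Approx
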