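import Groth.Agent.H8Props.Approx.Ring
import Groth.Agent.H9Hens.StalkUnramified
import Mathlib.AlgebraicGeometry.Morphisms.Etale

/-!
# Approximation of maps to completed local rings by etale neighbourhoods: schemes
-/

set_option autoImplicit false
set_option linter.style.haveILetI false

universe u

open CategoryTheory AlgebraicGeometry IsLocalRing

namespace Groth.Agent.H8Props.Approx

variable {X Y U S : Scheme.{u}}

theorem SpecMap_stalkCongr_fromSpecStalk {a b : X} (h : a = b) :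
    Spec.map (X.presheaf.stalkCongr (Inseparable.of_eq h)).hom ≫ X.fromSpecStalk a = X.fromSpecStalk b := by
  subst h
  simp

/-- The map of local rings at given points induced by a morphism of schemes. -/
noncomputable def stalkTo (f : U ⟶ X) (u : U) {x : X} (h : f u = x) :
    X.presheaf.stalk x ⟶ U.presheaf.stalk u :=
  (X.presheaf.stalkCongr (Inseparable.of_eq h)).inv ≫ f.stalkMap u

theorem stalkTo_self (f : U ⟶ X) (u : U) : stalkTo f u rfl = f.stalkMap u := by
  simp [stalkTo]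

theorem SpecMap_stalkTo (f : U ⟶ X) (u : U) {x : X} (h : f u = x) :
    Spec.map (stalkTo f u h) ≫ X.fromSpecStalk x = U.fromSpecStalk u ≫ f := by
  subst h
  rw [stalkTo_self, Scheme.SpecMap_stalkMap_fromSpecStalk]

theorem isLocalHom_stalkTo (f : U ⟶ X) (u : U) {x : X} (h : f u = x) :
    IsLocalHom (stalkTo f u h).hom := by
  subst h
  rw [stalkTo_self]
  exact inferInstanceAs (IsLocalHom (f.stalkMap u).hom)

theorem map_maximalIdeal_stalkTo [IsLocallyNoetherian X] (f : U ⟶ X) [Etale f] (u : U) {x : X}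
    (h : f u = x) :
    (maximalIdeal (X.presheaf.stalk x)).map (stalkTo f u h).hom = maximalIdeal (U.presheaf.stalk u) := by
  subst h
  rw [stalkTo_self]
  exact ((H9Hens.stalk_unramified_iff f u).1
    ((H9Hens.etale_nhd_iff f u).1 ⟨⊤, trivial, inferInstance⟩).2).1

theorem residueFieldMap_bijective (f : U ⟶ X) (u : U) {x : X} (h : f u = x)
    (hres : ∀ z, ∃ c, z - (stalkTo f u h).hom c ∈ maximalIdeal (U.presheaf.stalk u)) :
    Function.Bijective (f.residueFieldMap u) := by
  subst h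
  refine ⟨(f.residueFieldMap u).hom.injective, fun w => ?_⟩
  obtain ⟨z, rfl⟩ := U.residue_surjective u w
  obtain ⟨c, hc⟩ := hres z
  refine ⟨X.residue (f u) c, ?_⟩
  rw [stalkTo_self] at hc
  rw [← CommRingCat.comp_apply, Scheme.residue_residueFieldMap, CommRingCat.comp_apply]
  exact (Ideal.Quotient.eq.2 hc).symm

theorem closedPoint_SpecMap {R T : CommRingCat.{u}} [IsLocalRing R] [IsLocalRing T] (φ : R ⟶ T)
    [IsLocalHom φ.hom] : Spec.map φ (closedPoint T) = closedPoint R :=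
  IsLocalRing.comap_closedPoint φ.hom

/-- A map from a local ring of a scheme of finite type to a completed local ring is approximated by
morphisms from etale neighbourhoods with trivial residue field extension. -/
theorem exists_approx_of_isGRing [IsLocallyNoetherian S] [IsLocallyNoetherian X] (p : X ⟶ S) (q : Y ⟶ S)
    [LocallyOfFiniteType q] (x : X) (y : Y) (hxy : p x = q y)
    (hGO : CAlg.IsGRing ↑(X.presheaf.stalk x))
    (φ : ↑(Y.presheaf.stalk y) →+* AdicCompletion (maximalIdeal ↑(X.presheaf.stalk x)) ↑(X.presheaf.stalk x))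
    (hφ : φ.comp ((q.stalkMap y).hom.comp (S.presheaf.stalkCongr (Inseparable.of_eq hxy)).hom.hom) =
      (algebraMap ↑(X.presheaf.stalk x) (AdicCompletion (maximalIdeal ↑(X.presheaf.stalk x))
        ↑(X.presheaf.stalk x))).comp (p.stalkMap x).hom)
    (hloc : ∀ b ∈ maximalIdeal ↑(Y.presheaf.stalk y), φ b ∈ (maximalIdeal ↑(X.presheaf.stalk x)).map
      (algebraMap ↑(X.presheaf.stalk x) (AdicCompletion (maximalIdeal ↑(X.presheaf.stalk x))
        ↑(X.presheaf.stalk x))))
    (N : ℕ) :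
    ∃ (U : Scheme.{u}) (e : U ⟶ X) (u : U) (heu : e u = x) (f : U ⟶ Y) (hfu : f u = y),
      Etale e ∧ Function.Bijective (e.residueFieldMap u) ∧ f ≫ q = e ≫ p ∧
      ∃ ψ : ↑(U.presheaf.stalk u) →+* AdicCompletion (maximalIdeal ↑(X.presheaf.stalk x)) ↑(X.presheaf.stalk x),
        IsLocalHom ψ ∧
        (∀ c, ψ ((stalkTo e u heu).hom c) = algebraMap _ _ c) ∧
        (∀ b, φ b - ψ ((stalkTo f u hfu).hom b) ∈ maximalIdeal (AdicCompletion
          (maximalIdeal ↑(X.presheaf.stalk x)) ↑(X.presheaf.stalk x)) ^ (N + 1)) ∧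
        (∀ z j, ψ z ∈ maximalIdeal (AdicCompletion (maximalIdeal ↑(X.presheaf.stalk x))
          ↑(X.presheaf.stalk x)) ^ j → z ∈ maximalIdeal ↑(U.presheaf.stalk u) ^ j) ∧
        ∀ z j, ∃ c, z - (stalkTo e u heu).hom c ∈ maximalIdeal ↑(U.presheaf.stalk u) ^ j := by
  let O := X.presheaf.stalk x
  let L := AdicCompletion (maximalIdeal ↑O) ↑O
  -- affine charts
  obtain ⟨V, hV, hxV, -⟩ := TopologicalSpace.Opens.isBasis_iff_nbhd.mp S.isBasis_affineOpens
    (TopologicalSpace.Opens.mem_top (p x))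
  obtain ⟨W, hW, hxW, hWV⟩ := TopologicalSpace.Opens.isBasis_iff_nbhd.mp X.isBasis_affineOpens
    (show x ∈ p ⁻¹ᵁ V from hxV)
  obtain ⟨W', hW', hyW', hW'V⟩ := TopologicalSpace.Opens.isBasis_iff_nbhd.mp Y.isBasis_affineOpens
    (show y ∈ q ⁻¹ᵁ V from (hxy ▸ hxV : q y ∈ V))
  haveI : IsNoetherianRing Γ(S, V) := IsLocallyNoetherian.component_noetherian ⟨V, hV⟩
  haveI : IsNoetherianRing Γ(X, W) := IsLocallyNoetherian.component_noetherian ⟨W, hW⟩
  letI : Algebra Γ(S, V) Γ(X, W) := (p.appLE V W hWV).hom.toAlgebra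
  letI : Algebra Γ(S, V) Γ(Y, W') := (q.appLE V W' hW'V).hom.toAlgebra
  haveI : Algebra.FiniteType Γ(S, V) Γ(Y, W') :=
    HasRingHomProperty.appLE @LocallyOfFiniteType q inferInstance ⟨V, hV⟩ ⟨W', hW'⟩ hW'V
  letI : Algebra Γ(X, W) ↑O := X.presheaf.algebra_section_stalk ⟨x, hxW⟩
  haveI : IsLocalization.AtPrime ↑O (hW.primeIdealOf ⟨x, hxW⟩).asIdeal := hW.isLocalization_stalk ⟨x, hxW⟩
  have hlocφ : IsLocalHom φ := ((IsLocalRing.local_hom_TFAE φ).out 2 0).1
    (Ideal.map_le_iff_le_comap.2 fun b hb => by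
      rw [Ideal.mem_comap, maximalIdeal_completion]; exact hloc b hb)
  let φc : Y.presheaf.stalk y ⟶ CommRingCat.of L := CommRingCat.ofHom φ
  let can : O ⟶ CommRingCat.of L := CommRingCat.ofHom (algebraMap ↑O L)
  haveI : IsLocalHom φc.hom := hlocφ
  haveI : IsLocalHom can.hom := ((IsLocalRing.local_hom_TFAE (algebraMap ↑O L)).out 2 0).1
    (maximalIdeal_completion (O := ↑O)).ge
  have hx : Spec.map can ≫ X.fromSpecStalk x =
      Spec.map (CommRingCat.ofHom (algebraMap Γ(X, W) L)) ≫ hW.fromSpec := by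
    rw [← IsAffineOpen.fromSpecStalk_eq_fromSpecStalk hW hxW, IsAffineOpen.fromSpecStalk, ← Category.assoc,
      ← Spec.map_comp]
    rfl
  have hy : Spec.map φc ≫ Y.fromSpecStalk y =
      Spec.map (CommRingCat.ofHom (φ.comp (Y.presheaf.germ W' y hyW').hom)) ≫ hW'.fromSpec := by
    rw [← IsAffineOpen.fromSpecStalk_eq_fromSpecStalk hW' hyW', IsAffineOpen.fromSpecStalk, ← Category.assoc,
      ← Spec.map_comp]
    rfl
  have hbase : Spec.map φc ≫ Y.fromSpecStalk y ≫ q = Spec.map can ≫ X.fromSpecStalk x ≫ p := by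
    rw [← Scheme.SpecMap_stalkMap_fromSpecStalk, ← Scheme.SpecMap_stalkMap_fromSpecStalk,
      ← SpecMap_stalkCongr_fromSpecStalk hxy]
    simp only [← Category.assoc, ← Spec.map_comp]
    congr 2
    apply CommRingCat.hom_ext
    exact hφ
  have hΦ : ∀ r : Γ(S, V), (φ.comp (Y.presheaf.germ W' y hyW').hom) (algebraMap Γ(S, V) Γ(Y, W') r) =
      algebraMap Γ(X, W) L (algebraMap Γ(S, V) Γ(X, W) r) := by
    have h : q.appLE V W' hW'V ≫ CommRingCat.ofHom (φ.comp (Y.presheaf.germ W' y hyW').hom) =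
        p.appLE V W hWV ≫ CommRingCat.ofHom (algebraMap Γ(X, W) L) := by
      apply Spec.map_injective
      rw [← cancel_mono hV.fromSpec, Spec.map_comp, Spec.map_comp, Category.assoc, Category.assoc,
        IsAffineOpen.SpecMap_appLE_fromSpec q hV hW' hW'V, IsAffineOpen.SpecMap_appLE_fromSpec p hV hW hWV,
        ← Category.assoc, ← hy, ← Category.assoc (Spec.map _) hW.fromSpec, ← hx, Category.assoc, hbase,
        Category.assoc]
    exact fun r => ConcreteCategory.congr_hom h r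
  obtain ⟨A', _, _, hA', ψA, g, hg, happrox⟩ := exists_etale_map (R := Γ(S, V)) (O := ↑O)
    (hW.primeIdealOf ⟨x, hxW⟩).asIdeal hGO (φ.comp (Y.presheaf.germ W' y hyW').hom) hΦ N
  haveI := hA'
  let e : Spec (CommRingCat.of A') ⟶ X :=
    Spec.map (CommRingCat.ofHom (algebraMap Γ(X, W) A')) ≫ hW.fromSpec
  let f : Spec (CommRingCat.of A') ⟶ Y := Spec.map (CommRingCat.ofHom g) ≫ hW'.fromSpec
  let Ψ : Spec (CommRingCat.of L) ⟶ Spec (CommRingCat.of A') := Spec.map (CommRingCat.ofHom ψA.toRingHom)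
  have hΨe : Ψ ≫ e = Spec.map can ≫ X.fromSpecStalk x := by
    rw [hx, ← Category.assoc, ← Spec.map_comp, ← CommRingCat.ofHom_comp]
    congr 3
    exact ψA.comp_algebraMap
  let u : ↥(Spec (CommRingCat.of A')) := Ψ (closedPoint (CommRingCat.of L))
  have heu : e u = x := by
    rw [← Scheme.Hom.comp_apply, hΨe, Scheme.Hom.comp_apply]
    rw [closedPoint_SpecMap can, Scheme.fromSpecStalk_closedPoint]
  let ψu : (Spec (CommRingCat.of A')).presheaf.stalk u ⟶ CommRingCat.of L :=
    Scheme.stalkClosedPointTo (R := CommRingCat.of L) Ψ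
  have hψu : Spec.map ψu ≫ (Spec (CommRingCat.of A')).fromSpecStalk u = Ψ :=
    Scheme.Spec_stalkClosedPointTo_fromSpecStalk (R := CommRingCat.of L) Ψ
  have hψe : stalkTo e u heu ≫ ψu = can := by
    apply Spec.map_injective
    rw [← cancel_mono (X.fromSpecStalk x), Spec.map_comp, Category.assoc, SpecMap_stalkTo, reassoc_of% hψu,
      hΨe]
  -- the truncation
  let J := maximalIdeal L ^ (N + 1)
  haveI : Nontrivial (L ⧸ J) := Ideal.Quotient.nontrivial_iff.2 fun h =>
    (IsLocalRing.maximalIdeal.isMaximal L).ne_top (top_le_iff.1 (h.symm.le.trans (Ideal.pow_le_self N.succ_ne_zero)))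
  haveI : IsLocalRing (L ⧸ J) := IsLocalRing.of_surjective' (Ideal.Quotient.mk J) Ideal.Quotient.mk_surjective
  let π : CommRingCat.of L ⟶ CommRingCat.of (L ⧸ J) := CommRingCat.ofHom (Ideal.Quotient.mk J)
  haveI : IsLocalHom π.hom := ⟨fun a ha => by
    by_contra hn
    obtain ⟨b, hb⟩ := isUnit_iff_exists_inv.1 ha
    obtain ⟨b, rfl⟩ := Ideal.Quotient.mk_surjective b
    have h1 : a * b - 1 ∈ J := Ideal.Quotient.eq.1 (by rw [map_mul, map_one]; exact hb)
    have h2 := sub_mem (Ideal.mul_mem_right b (maximalIdeal L) hn) (Ideal.pow_le_self N.succ_ne_zero h1)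
    rw [sub_sub_cancel] at h2
    exact (IsLocalRing.maximalIdeal.isMaximal L).ne_top ((Ideal.eq_top_iff_one _).2 h2)⟩
  have hπ : Spec.map π ≫ Ψ ≫ f = Spec.map π ≫ Spec.map φc ≫ Y.fromSpecStalk y := by
    rw [hy]
    simp only [Ψ, f, ← Category.assoc, ← Spec.map_comp]
    congr 2
    ext b
    exact (Ideal.Quotient.eq.2 (happrox b)).symm
  have hfu : f u = y := by
    have h := congrArg (fun k : Spec (CommRingCat.of (L ⧸ J)) ⟶ Y =>
      k (closedPoint (CommRingCat.of (L ⧸ J)))) hπ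
    simp only [Scheme.Hom.comp_apply] at h
    rw [closedPoint_SpecMap π, closedPoint_SpecMap φc, Scheme.fromSpecStalk_closedPoint] at h
    exact h
  have hψf : stalkTo f u hfu ≫ ψu ≫ π = φc ≫ π := by
    apply Spec.map_injective
    rw [← cancel_mono (Y.fromSpecStalk y), Spec.map_comp, Spec.map_comp, Spec.map_comp, Category.assoc,
      Category.assoc, SpecMap_stalkTo, reassoc_of% hψu, hπ, Category.assoc]
  haveI : Etale (Spec.map (CommRingCat.ofHom (algebraMap Γ(X, W) A'))) := by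
    rw [HasRingHomProperty.Spec_iff (P := @Etale)]
    exact RingHom.etale_algebraMap.mpr hA'
  have hee : Etale e := inferInstanceAs (Etale (_ ≫ _))
  haveI := hee
  haveI : IsLocallyNoetherian (Spec (CommRingCat.of A')) := LocallyOfFiniteType.isLocallyNoetherian e
  have hcan : ∀ c, ψu.hom ((stalkTo e u heu).hom c) = algebraMap ↑O L c := fun c =>
    ConcreteCategory.congr_hom hψe c
  haveI : IsLocalHom ψu.hom := inferInstanceAs (IsLocalHom (Scheme.stalkClosedPointTo (R := CommRingCat.of L) Ψ).hom)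
  have hres : ∀ z, ∃ c, z - (stalkTo e u heu).hom c ∈ maximalIdeal ((Spec (CommRingCat.of A')).presheaf.stalk u) := by
    intro z
    obtain ⟨c, hc⟩ := exists_evalₐ_eq 1 (ψu.hom z)
    rw [pow_one, ← hcan, ← map_sub] at hc
    exact ⟨c, fun h => hc (h.map ψu.hom)⟩
  letI : Algebra ↑O ((Spec (CommRingCat.of A')).presheaf.stalk u) := (stalkTo e u heu).hom.toAlgebra
  have hpow : ∀ z j, ∃ c, z - (stalkTo e u heu).hom c ∈
      maximalIdeal ((Spec (CommRingCat.of A')).presheaf.stalk u) ^ j := fun z j =>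
    H19Grp.EndoFlat.exists_sub_mem_pow (R := ↑O) (map_maximalIdeal_stalkTo e u heu) hres j z
  refine ⟨_, e, u, heu, f, hfu, hee, residueFieldMap_bijective e u heu hres, ?_, ψu.hom, inferInstance, hcan, fun b => ?_,
    fun z j hz => ?_, hpow⟩
  · simp only [e, f, Category.assoc, ← IsAffineOpen.SpecMap_appLE_fromSpec q hV hW' hW'V,
      ← IsAffineOpen.SpecMap_appLE_fromSpec p hV hW hWV]
    simp only [← Category.assoc, ← Spec.map_comp]
    congr 2
    ext r
    exact hg r
  · exact Ideal.Quotient.eq.1 (ConcreteCategory.congr_hom hψf b).symm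
  · obtain ⟨c, hc⟩ := hpow z j
    have hle : (maximalIdeal ((Spec (CommRingCat.of A')).presheaf.stalk u) ^ j).map ψu.hom ≤ maximalIdeal L ^ j := by
      rw [Ideal.map_pow]
      exact Ideal.pow_right_mono (((IsLocalRing.local_hom_TFAE ψu.hom).out 0 2).1 ‹_›) j
    have h1 := sub_mem hz (hle (Ideal.mem_map_of_mem _ hc))
    rw [map_sub, sub_sub_cancel, hcan, ← evalₐ_eq_zero_iff, H05EGA4.AdicLim.evalₐ_algebraMap,
      Ideal.Quotient.eq_zero_iff_mem] at h1
    have h2 : (stalkTo e u heu).hom c ∈ maximalIdeal ((Spec (CommRingCat.of A')).presheaf.stalk u) ^ j := by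
      rw [← map_maximalIdeal_stalkTo e u heu, ← Ideal.map_pow]
      exact Ideal.mem_map_of_mem _ h1
    simpa using add_mem hc h2

/-- A map from a local ring of a scheme of finite type to a completed local ring is approximated by
morphisms from etale neighbourhoods with trivial residue field extension. -/
theorem exists_approx [IsLocallyNoetherian S] [IsLocallyNoetherian X] (p : X ⟶ S) (q : Y ⟶ S) [LocallyOfFiniteType p]
    [LocallyOfFiniteType q] (x : X) (y : Y) (hxy : p x = q y)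
    (hG : CAlg.IsGRing ↑(S.presheaf.stalk (p x)))
    (φ : ↑(Y.presheaf.stalk y) →+* AdicCompletion (maximalIdeal ↑(X.presheaf.stalk x)) ↑(X.presheaf.stalk x))
    (hφ : φ.comp ((q.stalkMap y).hom.comp (S.presheaf.stalkCongr (Inseparable.of_eq hxy)).hom.hom) =
      (algebraMap ↑(X.presheaf.stalk x) (AdicCompletion (maximalIdeal ↑(X.presheaf.stalk x))
        ↑(X.presheaf.stalk x))).comp (p.stalkMap x).hom)
    (hloc : ∀ b ∈ maximalIdeal ↑(Y.presheaf.stalk y), φ b ∈ (maximalIdeal ↑(X.presheaf.stalk x)).map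
      (algebraMap ↑(X.presheaf.stalk x) (AdicCompletion (maximalIdeal ↑(X.presheaf.stalk x))
        ↑(X.presheaf.stalk x))))
    (N : ℕ) :
    ∃ (U : Scheme.{u}) (e : U ⟶ X) (u : U) (heu : e u = x) (f : U ⟶ Y) (hfu : f u = y),
      Etale e ∧ Function.Bijective (e.residueFieldMap u) ∧ f ≫ q = e ≫ p ∧
      ∃ ψ : ↑(U.presheaf.stalk u) →+* AdicCompletion (maximalIdeal ↑(X.presheaf.stalk x)) ↑(X.presheaf.stalk x),
        IsLocalHom ψ ∧
        (∀ c, ψ ((stalkTo e u heu).hom c) = algebraMap _ _ c) ∧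
        (∀ b, φ b - ψ ((stalkTo f u hfu).hom b) ∈ maximalIdeal (AdicCompletion
          (maximalIdeal ↑(X.presheaf.stalk x)) ↑(X.presheaf.stalk x)) ^ (N + 1)) ∧
        (∀ z j, ψ z ∈ maximalIdeal (AdicCompletion (maximalIdeal ↑(X.presheaf.stalk x))
          ↑(X.presheaf.stalk x)) ^ j → z ∈ maximalIdeal ↑(U.presheaf.stalk u) ^ j) ∧
        ∀ z j, ∃ c, z - (stalkTo e u heu).hom c ∈ maximalIdeal ↑(U.presheaf.stalk u) ^ j := by
  refine exists_approx_of_isGRing p q x y hxy ?_ φ hφ hloc N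
  letI : Algebra ↑(S.presheaf.stalk (p x)) ↑(X.presheaf.stalk x) := (p.stalkMap x).hom.toAlgebra
  haveI : Algebra.EssFiniteType ↑(S.presheaf.stalk (p x)) ↑(X.presheaf.stalk x) :=
    LocallyOfFiniteType.stalkMap p x
  exact isGRing_of_essFiniteType hG

end Groth.Agent.H8Props.Approx
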