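import Groth.Agent.H8Props.Approx.EtaleSpread

/-!
# Spreading etale algebras over a completion when the second base is of finite type over the integers
-/

set_option autoImplicit false
set_option linter.style.haveILetI false
set_option backward.isDefEq.respectTransparency false

universe u

open TensorProduct IsLocalRing

namespace Groth.Agent.H8Props.Approx

/-- A map from a finitely generated ring factors through a finitely generated algebra. -/
theorem exists_base {R C L : Type u} [CommRing R] [CommRing C] [Algebra.FiniteType ℤ C] [CommRing L]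
    [Algebra R L] (σ : C →+* L) :
    ∃ (D0 : Type u) (_ : CommRing D0) (_ : Algebra R D0) (_ : Algebra D0 L) (_ : IsScalarTower R D0 L),
      Algebra.FiniteType R D0 ∧ ∃ γ : C →+* D0, (algebraMap D0 L).comp γ = σ := by
  classical
  obtain ⟨s, hs⟩ := Algebra.FiniteType.out (R := ℤ) (A := C)
  let D0 : Subalgebra R L := Algebra.adjoin R ((s.image σ : Finset L) : Set L)
  have hmem : ∀ c, σ c ∈ D0 := fun c => by
    have hc : c ∈ Algebra.adjoin ℤ (s : Set C) := hs ▸ Algebra.mem_top
    induction hc using Algebra.adjoin_induction with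
    | mem x hx => exact Algebra.subset_adjoin (Finset.mem_coe.2 (Finset.mem_image_of_mem σ hx))
    | algebraMap n => rw [eq_intCast, map_intCast]; exact intCast_mem _ n
    | add x y _ _ hx hy => rw [map_add]; exact add_mem hx hy
    | mul x y _ _ hx hy => rw [map_mul]; exact mul_mem hx hy
  exact ⟨D0, inferInstance, inferInstance, inferInstance, inferInstance,
    (Subalgebra.fg_iff_finiteType _).1 (Subalgebra.fg_adjoin_finset _), σ.codRestrict D0 hmem, rfl⟩

/-- An algebra etale over extensions to a regular local algebra of algebras over two bases, the second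
of finite type over the integers, spreads to an etale algebra over the first base. -/
theorem exists_etale_spread_int {R C A B L E κ : Type u} [CommRing R] [IsNoetherianRing R] [CommRing C]
    [Algebra.FiniteType ℤ C] [CommRing A] [Algebra R A] [Algebra.FiniteType R A] [CommRing B] [Algebra C B]
    [Algebra.FiniteType C B] [CommRing L] [IsNoetherianRing L] [IsLocalRing L] [Algebra R L] [Algebra C L]
    (hreg : CAlg.IsRegularHom R L)
    (hk : ∀ q : L ⧸ maximalIdeal L, ∃ r s : R, IsUnit (algebraMap R (L ⧸ maximalIdeal L) s) ∧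
      algebraMap R (L ⧸ maximalIdeal L) s * q = algebraMap R (L ⧸ maximalIdeal L) r)
    [CommRing E] [CommRing κ] (eA : L ⊗[R] A →+* E) (eB : L ⊗[C] B →+* E) (hA : eA.Etale) (hB : eB.Etale)
    (hcomm : ∀ l : L, eA (l ⊗ₜ 1) = eB (l ⊗ₜ 1)) (χE : E →+* κ) (kbar : L ⧸ maximalIdeal L →+* κ)
    (hkbar : ∀ l, χE (eA (l ⊗ₜ 1)) = kbar (Ideal.Quotient.mk _ l)) :
    ∃ (R' : Type u) (_ : CommRing R') (_ : Algebra R R') (_ : Algebra C R'), Algebra.Etale R R' ∧
      ∃ ψ : R' →ₐ[R] L ⧸ maximalIdeal L,
        (∀ c, ψ (algebraMap C R' c) = Ideal.Quotient.mk _ (algebraMap C L c)) ∧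
        ∃ (W : Type u) (_ : CommRing W) (a : A →+* W) (b : R' ⊗[C] B →+* W) (γ : R' →+* W),
          a.Etale ∧ b.Etale ∧ (∀ r, a (algebraMap R A r) = γ (algebraMap R R' r)) ∧
          (∀ r, b (r ⊗ₜ 1) = γ r) ∧ ∃ ω : W →+* κ, (∀ r, ω (γ r) = kbar (ψ r)) ∧
            (∀ x, ω (a x) = χE (eA (1 ⊗ₜ x))) ∧ ∀ y, ω (b (1 ⊗ₜ y)) = χE (eB (1 ⊗ₜ y)) := by
  obtain ⟨D0, _, _, _, _, hD0, γ₀, hγ₀⟩ := exists_base (R := R) (algebraMap C L)
  haveI := hD0
  letI : Algebra C D0 := γ₀.toAlgebra
  haveI : IsScalarTower C D0 L := IsScalarTower.of_algebraMap_eq fun c => (RingHom.congr_fun hγ₀ c).symm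
  let cA := Algebra.TensorProduct.cancelBaseChange R D0 L L A
  let cB := Algebra.TensorProduct.cancelBaseChange C D0 L L B
  obtain ⟨R', _, _, _, _, hR', ψ, hψ, W, _, a, b, ha, hb, hab, ω, hωr, hωa, hωb⟩ :=
    exists_etale_spread (A := D0 ⊗[R] A) (B := D0 ⊗[C] B) hreg hk (eA.comp cA.toRingEquiv.toRingHom)
      (eB.comp cB.toRingEquiv.toRingHom) (RingHom.Etale.respectsIso.2 _ cA.toRingEquiv hA)
      (RingHom.Etale.respectsIso.2 _ cB.toRingEquiv hB)
      (fun l => by simp [cA, cB, Algebra.TensorProduct.one_def, hcomm]) χE kbar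
      (fun l => by simp [cA, Algebra.TensorProduct.one_def, hkbar])
  letI : Algebra C R' := ((algebraMap D0 R').comp γ₀).toAlgebra
  haveI : IsScalarTower C D0 R' := IsScalarTower.of_algebraMap_eq fun _ => rfl
  let cA' := Algebra.TensorProduct.cancelBaseChange R D0 R' R' A
  let cB' := Algebra.TensorProduct.cancelBaseChange C D0 R' R' B
  haveI := hR'
  refine ⟨R', inferInstance, inferInstance, inferInstance, hR', ψ,
    fun c => (hψ (γ₀ c)).trans (congrArg _ (RingHom.congr_fun hγ₀ c)), W, inferInstance,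
    (a.comp cA'.symm.toRingEquiv.toRingHom).comp
      (Algebra.TensorProduct.includeRight : A →ₐ[R] R' ⊗[R] A).toRingHom,
    b.comp cB'.symm.toRingEquiv.toRingHom, a.comp Algebra.TensorProduct.includeLeftRingHom, ?_, ?_,
    fun r => ?_, fun r => ?_, ω, fun r => ?_, fun x => ?_, fun y => ?_⟩
  · refine RingHom.Etale.stableUnderComposition _ _ ?_ (RingHom.Etale.respectsIso.2 _ cA'.symm.toRingEquiv ha)
    have h : (algebraMap A (A ⊗[R] R')).Etale := RingHom.etale_algebraMap.2 inferInstance
    refine (etale_iff_square (algebraMap A (A ⊗[R] R')) _ (RingEquiv.refl A)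
      (Algebra.TensorProduct.comm R A R').toRingEquiv fun x => ?_).1 h
    simp [Algebra.TensorProduct.algebraMap_apply]
  · exact RingHom.Etale.respectsIso.2 _ cB'.symm.toRingEquiv hb
  · simp [cA', Algebra.TensorProduct.algebraMap_apply, ← Algebra.TensorProduct.one_def]
  · have h1 := hab r
    simp only [Algebra.TensorProduct.one_def] at h1
    simp [cB', Algebra.TensorProduct.one_def]
    exact h1.symm
  · simp [hωr]
  · simp [cA', hωa, cA]
  · simp [cB', hωb, cB]

end Groth.Agent.H8Props.Approx
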